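import Cfsg.Agent.Helper28.Fi22a.Data
set_option autoImplicit false
set_option maxRecDepth 1000000
namespace Cfsg.Agent.Helper28.Fi22a
open Cfsg.Agent.Helper28
theorem inv_piece0 : allLtFrom (invRow ptabs) 0 2222 = true := by decide +kernel
theorem inv_piece1 : allLtFrom (invRow ptabs) 2222 2222 = true := by decide +kernel
theorem inv_piece2 : allLtFrom (invRow ptabs) 4444 2222 = true := by decide +kernel
theorem inv_piece3 : allLtFrom (invRow ptabs) 6666 2222 = true := by decide +kernel
theorem inv_piece4 : allLtFrom (invRow ptabs) 8888 2222 = true := by decide +kernel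
theorem inv_piece5 : allLtFrom (invRow ptabs) 11110 2222 = true := by decide +kernel
theorem inv_piece6 : allLtFrom (invRow ptabs) 13332 748 = true := by decide +kernel
end Cfsg.Agent.Helper28.Fi22a
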