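import Cfsg.Agent.Helper28.Fi22a.Data
set_option autoImplicit false
set_option maxRecDepth 1000000
namespace Cfsg.Agent.Helper28.Fi22a
open Cfsg.Agent.Helper28
theorem perm_piece_0_0 : permPiece tabs.word letL.get 1023 14 16383 8 1 0 14080 = true := by decide +kernel
theorem perm_piece_1_0 : permPiece tabs.word letL.get 1023 14 16383 9 1 0 14080 = true := by decide +kernel
theorem perm_piece_2_0 : permPiece tabs.word letL.get 1023 14 16383 10 1 0 14080 = true := by decide +kernel
theorem perm_piece_3_0 : permPiece tabs.word letL.get 1023 14 16383 11 1 0 14080 = true := by decide +kernel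
theorem perm_piece_4_0 : permPiece tabs.word letL.get 1023 14 16383 12 1 0 14080 = true := by decide +kernel
theorem perm_piece_5_0 : permPiece tabs.word letL.get 1023 14 16383 13 1 0 14080 = true := by decide +kernel
theorem perm_piece_6_0 : permPiece tabs.word letL.get 1023 14 16383 14 1 0 14080 = true := by decide +kernel
theorem perm_piece_7_0 : permPiece tabs.word letL.get 1023 14 16383 15 1 0 14080 = true := by decide +kernel
theorem perm_piece_8_0 : permPiece tabs.word letL.get 1023 14 16383 16 1 0 14080 = true := by decide +kernel
theorem perm_piece_9_0 : permPiece tabs.word letL.get 1023 14 16383 17 1 0 14080 = true := by decide +kernel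
theorem perm_piece_10_0 : permPiece tabs.word letL.get 1023 14 16383 18 1 0 14080 = true := by decide +kernel
theorem perm_piece_11_0 : permPiece tabs.word letL.get 1023 14 16383 19 1 0 14080 = true := by decide +kernel
theorem perm_piece_12_0 : permPiece tabs.word letL.get 1023 14 16383 20 1 0 14080 = true := by decide +kernel
theorem perm_piece_13_0 : permPiece tabs.word letL.get 1023 14 16383 21 1 0 14080 = true := by decide +kernel
theorem perm_piece_14_0 : permPiece tabs.word letL.get 1023 14 16383 22 1 0 14080 = true := by decide +kernel
end Cfsg.Agent.Helper28.Fi22a
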