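import Cfsg.Agent.Helper28.Fi22a.Data
set_option autoImplicit false
set_option maxRecDepth 1000000
namespace Cfsg.Agent.Helper28.Fi22a
open Cfsg.Agent.Helper28
theorem perm_piece_29_0 : permPiece tabs.word letL.get 1023 14 16383 37 1 0 14080 = true := by decide +kernel
theorem perm_piece_30_0 : permPiece tabs.word letL.get 1023 14 16383 38 1 0 14080 = true := by decide +kernel
theorem perm_piece_31_0 : permPiece tabs.word letL.get 1023 14 16383 39 1 0 14080 = true := by decide +kernel
theorem perm_piece_32_0 : permPiece tabs.word letL.get 1023 14 16383 40 1 0 14080 = true := by decide +kernel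
theorem perm_piece_33_0 : permPiece tabs.word letL.get 1023 14 16383 41 1 0 14080 = true := by decide +kernel
theorem perm_piece_34_0 : permPiece tabs.word letL.get 1023 14 16383 42 1 0 14080 = true := by decide +kernel
theorem perm_piece_35_0 : permPiece tabs.word letL.get 1023 14 16383 43 1 0 14080 = true := by decide +kernel
theorem perm_piece_36_0 : permPiece tabs.word letL.get 1023 14 16383 44 1 0 14080 = true := by decide +kernel
theorem perm_piece_37_0 : permPiece tabs.word letL.get 1023 14 16383 45 1 0 14080 = true := by decide +kernel
theorem perm_piece_38_0 : permPiece tabs.word letL.get 1023 14 16383 46 1 0 14080 = true := by decide +kernel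
theorem perm_piece_39_0 : permPiece tabs.word letL.get 1023 14 16383 47 1 0 14080 = true := by decide +kernel
theorem perm_piece_40_0 : permPiece tabs.word letL.get 1023 14 16383 48 1 0 14080 = true := by decide +kernel
theorem perm_piece_41_0 : permPiece tabs.word letL.get 1023 14 16383 49 1 0 14080 = true := by decide +kernel
theorem perm_piece_42_0 : permPiece tabs.word letL.get 1023 14 16383 50 1 0 14080 = true := by decide +kernel
end Cfsg.Agent.Helper28.Fi22a
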