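import Cfsg.Agent.Helper28.Fi22a.Data
set_option autoImplicit false
set_option maxRecDepth 1000000
namespace Cfsg.Agent.Helper28.Fi22a
open Cfsg.Agent.Helper28
theorem perm_piece_43_0 : permPiece tabs.word letL.get 1023 14 16383 51 1 0 14080 = true := by decide +kernel
theorem perm_piece_44_0 : permPiece tabs.word letL.get 1023 14 16383 52 1 0 14080 = true := by decide +kernel
theorem perm_piece_45_0 : permPiece tabs.word letL.get 1023 14 16383 53 1 0 14080 = true := by decide +kernel
theorem perm_piece_46_0 : permPiece tabs.word letL.get 1023 14 16383 54 1 0 14080 = true := by decide +kernel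
theorem perm_piece_47_0 : permPiece tabs.word letL.get 1023 14 16383 55 1 0 14080 = true := by decide +kernel
theorem perm_piece_48_0 : permPiece tabs.word letL.get 1023 14 16383 56 1 0 14080 = true := by decide +kernel
theorem perm_piece_49_0 : permPiece tabs.word letL.get 1023 14 16383 57 1 0 14080 = true := by decide +kernel
theorem perm_piece_50_0 : permPiece tabs.word letL.get 1023 14 16383 58 1 0 14080 = true := by decide +kernel
theorem perm_piece_51_0 : permPiece tabs.word letL.get 1023 14 16383 59 1 0 14080 = true := by decide +kernel
theorem perm_piece_52_0 : permPiece tabs.word letL.get 1023 14 16383 60 1 0 14080 = true := by decide +kernel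
theorem perm_piece_53_0 : permPiece tabs.word letL.get 1023 14 16383 61 1 0 14080 = true := by decide +kernel
theorem perm_piece_54_0 : permPiece tabs.word letL.get 1023 14 16383 62 1 0 14080 = true := by decide +kernel
theorem perm_piece_55_0 : permPiece tabs.word letL.get 1023 14 16383 63 1 0 14080 = true := by decide +kernel
theorem perm_piece_56_0 : permPiece tabs.word letL.get 1023 14 16383 64 1 0 14080 = true := by decide +kernel
theorem perm_piece_57_0 : permPiece tabs.word letL.get 1023 14 16383 65 1 0 14080 = true := by decide +kernel
end Cfsg.Agent.Helper28.Fi22a
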