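import Cfsg.Agent.Helper28.Fi22a.Data
set_option autoImplicit false
set_option maxRecDepth 1000000
namespace Cfsg.Agent.Helper28.Fi22a
open Cfsg.Agent.Helper28
theorem perm_piece_71_0 : permPiece tabs.word letL.get 1023 14 16383 81 1 0 14080 = true := by decide +kernel
theorem perm_piece_72_0 : permPiece tabs.word letL.get 1023 14 16383 82 1 0 14080 = true := by decide +kernel
theorem perm_piece_73_0 : permPiece tabs.word letL.get 1023 14 16383 83 1 0 14080 = true := by decide +kernel
theorem perm_piece_74_0 : permPiece tabs.word letL.get 1023 14 16383 84 1 0 14080 = true := by decide +kernel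
theorem perm_piece_75_0 : permPiece tabs.word letL.get 1023 14 16383 85 1 0 14080 = true := by decide +kernel
theorem perm_piece_76_0 : permPiece tabs.word letL.get 1023 14 16383 86 1 0 14080 = true := by decide +kernel
theorem perm_piece_77_0 : permPiece tabs.word letL.get 1023 14 16383 87 1 0 14080 = true := by decide +kernel
theorem perm_piece_78_0 : permPiece tabs.word letL.get 1023 14 16383 88 1 0 14080 = true := by decide +kernel
theorem perm_piece_79_0 : permPiece tabs.word letL.get 1023 14 16383 89 1 0 1111 = true := by decide +kernel
theorem perm_piece_79_1 : permPiece tabs.word letL.get 1023 14 16383 89 1 1111 1111 = true := by decide +kernel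
theorem perm_piece_79_2 : permPiece tabs.word letL.get 1023 14 16383 89 1 2222 1111 = true := by decide +kernel
theorem perm_piece_79_3 : permPiece tabs.word letL.get 1023 14 16383 89 1 3333 1111 = true := by decide +kernel
end Cfsg.Agent.Helper28.Fi22a
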