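import Cfsg.Agent.Helper28.Fi22a.Data
set_option autoImplicit false
set_option maxRecDepth 1000000
namespace Cfsg.Agent.Helper28.Fi22a
open Cfsg.Agent.Helper28
theorem perm_piece_79_4 : permPiece tabs.word letL.get 1023 14 16383 89 1 4444 1111 = true := by decide +kernel
theorem perm_piece_79_5 : permPiece tabs.word letL.get 1023 14 16383 89 1 5555 1111 = true := by decide +kernel
theorem perm_piece_79_6 : permPiece tabs.word letL.get 1023 14 16383 89 1 6666 1111 = true := by decide +kernel
theorem perm_piece_79_7 : permPiece tabs.word letL.get 1023 14 16383 89 1 7777 1111 = true := by decide +kernel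
theorem perm_piece_79_8 : permPiece tabs.word letL.get 1023 14 16383 89 1 8888 1111 = true := by decide +kernel
theorem perm_piece_79_9 : permPiece tabs.word letL.get 1023 14 16383 89 1 9999 1111 = true := by decide +kernel
theorem perm_piece_79_10 : permPiece tabs.word letL.get 1023 14 16383 89 1 11110 1111 = true := by decide +kernel
theorem perm_piece_79_11 : permPiece tabs.word letL.get 1023 14 16383 89 1 12221 1111 = true := by decide +kernel
theorem perm_piece_79_12 : permPiece tabs.word letL.get 1023 14 16383 89 1 13332 748 = true := by decide +kernel
end Cfsg.Agent.Helper28.Fi22a
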