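import Cfsg.Agent.Helper28.Fi22a.Data
set_option autoImplicit false
set_option maxRecDepth 1000000
namespace Cfsg.Agent.Helper28.Fi22a
open Cfsg.Agent.Helper28
theorem perm_piece_80_0 : permPiece tabs.word letL.get 1023 14 16383 90 1 0 1587 = true := by decide +kernel
theorem perm_piece_80_1 : permPiece tabs.word letL.get 1023 14 16383 90 1 1587 1587 = true := by decide +kernel
theorem perm_piece_80_2 : permPiece tabs.word letL.get 1023 14 16383 90 1 3174 1587 = true := by decide +kernel
theorem perm_piece_80_3 : permPiece tabs.word letL.get 1023 14 16383 90 1 4761 1587 = true := by decide +kernel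
theorem perm_piece_80_4 : permPiece tabs.word letL.get 1023 14 16383 90 1 6348 1587 = true := by decide +kernel
theorem perm_piece_80_5 : permPiece tabs.word letL.get 1023 14 16383 90 1 7935 1587 = true := by decide +kernel
theorem perm_piece_80_6 : permPiece tabs.word letL.get 1023 14 16383 90 1 9522 1587 = true := by decide +kernel
theorem perm_piece_80_7 : permPiece tabs.word letL.get 1023 14 16383 90 1 11109 1587 = true := by decide +kernel
end Cfsg.Agent.Helper28.Fi22a
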