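import Cfsg.Agent.Helper28.Fi22a.Data
set_option autoImplicit false
set_option maxRecDepth 1000000
namespace Cfsg.Agent.Helper28.Fi22a
open Cfsg.Agent.Helper28
theorem perm_piece_81_7 : permPiece tabs.word letL.get 1023 14 16383 91 1 11109 1587 = true := by decide +kernel
theorem perm_piece_81_8 : permPiece tabs.word letL.get 1023 14 16383 91 1 12696 1384 = true := by decide +kernel
end Cfsg.Agent.Helper28.Fi22a
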