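import Cfsg.Agent.Helper28.Fi22a.F0
import Cfsg.Agent.Helper28.Fi22a.F1
import Cfsg.Agent.Helper28.Fi22a.F2
import Cfsg.Agent.Helper28.Fi22a.Fin0
import Cfsg.Agent.Helper28.Fi22a.Fin1
import Cfsg.Agent.Helper28.Fi22a.Fin2
import Cfsg.Agent.Helper28.Fi22a.Fin3
import Cfsg.Agent.Helper28.Fi22a.Inv0
import Cfsg.Agent.Helper28.Fi22a.Misc0
import Cfsg.Agent.Helper28.Fi22a.P0
import Cfsg.Agent.Helper28.Fi22a.P1
import Cfsg.Agent.Helper28.Fi22a.P2
import Cfsg.Agent.Helper28.Fi22a.P3
import Cfsg.Agent.Helper28.Fi22a.P4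
import Cfsg.Agent.Helper28.Fi22a.P5
import Cfsg.Agent.Helper28.Fi22a.P6
import Cfsg.Agent.Helper28.Fi22a.P7
import Cfsg.Agent.Helper28.Fi22a.P8
import Cfsg.Agent.Helper28.Fi22a.P9
set_option autoImplicit false
namespace Cfsg.Agent.Helper28.Fi22a
open Cfsg.Agent.Helper28
theorem fin_upto0 : allLt (finRow tabs ptabs 120248) 555 = true :=
  allLt_extend _ 0 555 555 rfl (allLt_zero _) fin_piece0
theorem fin_upto1 : allLt (finRow tabs ptabs 120248) 1110 = true :=
  allLt_extend _ 555 555 1110 rfl fin_upto0 fin_piece1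
theorem fin_upto2 : allLt (finRow tabs ptabs 120248) 1665 = true :=
  allLt_extend _ 1110 555 1665 rfl fin_upto1 fin_piece2
theorem fin_upto3 : allLt (finRow tabs ptabs 120248) 2220 = true :=
  allLt_extend _ 1665 555 2220 rfl fin_upto2 fin_piece3
theorem fin_upto4 : allLt (finRow tabs ptabs 120248) 2775 = true :=
  allLt_extend _ 2220 555 2775 rfl fin_upto3 fin_piece4
theorem fin_upto5 : allLt (finRow tabs ptabs 120248) 3330 = true :=
  allLt_extend _ 2775 555 3330 rfl fin_upto4 fin_piece5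
theorem fin_upto6 : allLt (finRow tabs ptabs 120248) 3885 = true :=
  allLt_extend _ 3330 555 3885 rfl fin_upto5 fin_piece6
theorem fin_upto7 : allLt (finRow tabs ptabs 120248) 4440 = true :=
  allLt_extend _ 3885 555 4440 rfl fin_upto6 fin_piece7
theorem fin_upto8 : allLt (finRow tabs ptabs 120248) 4995 = true :=
  allLt_extend _ 4440 555 4995 rfl fin_upto7 fin_piece8
theorem fin_upto9 : allLt (finRow tabs ptabs 120248) 5550 = true :=
  allLt_extend _ 4995 555 5550 rfl fin_upto8 fin_piece9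
theorem fin_upto10 : allLt (finRow tabs ptabs 120248) 6105 = true :=
  allLt_extend _ 5550 555 6105 rfl fin_upto9 fin_piece10
theorem fin_upto11 : allLt (finRow tabs ptabs 120248) 6660 = true :=
  allLt_extend _ 6105 555 6660 rfl fin_upto10 fin_piece11
theorem fin_upto12 : allLt (finRow tabs ptabs 120248) 7215 = true :=
  allLt_extend _ 6660 555 7215 rfl fin_upto11 fin_piece12
theorem fin_upto13 : allLt (finRow tabs ptabs 120248) 7770 = true :=
  allLt_extend _ 7215 555 7770 rfl fin_upto12 fin_piece13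
theorem fin_upto14 : allLt (finRow tabs ptabs 120248) 8325 = true :=
  allLt_extend _ 7770 555 8325 rfl fin_upto13 fin_piece14
theorem fin_upto15 : allLt (finRow tabs ptabs 120248) 8880 = true :=
  allLt_extend _ 8325 555 8880 rfl fin_upto14 fin_piece15
theorem fin_upto16 : allLt (finRow tabs ptabs 120248) 9435 = true :=
  allLt_extend _ 8880 555 9435 rfl fin_upto15 fin_piece16
theorem fin_upto17 : allLt (finRow tabs ptabs 120248) 9990 = true :=
  allLt_extend _ 9435 555 9990 rfl fin_upto16 fin_piece17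
theorem fin_upto18 : allLt (finRow tabs ptabs 120248) 10545 = true :=
  allLt_extend _ 9990 555 10545 rfl fin_upto17 fin_piece18
theorem fin_upto19 : allLt (finRow tabs ptabs 120248) 11100 = true :=
  allLt_extend _ 10545 555 11100 rfl fin_upto18 fin_piece19
theorem fin_upto20 : allLt (finRow tabs ptabs 120248) 11655 = true :=
  allLt_extend _ 11100 555 11655 rfl fin_upto19 fin_piece20
theorem fin_upto21 : allLt (finRow tabs ptabs 120248) 12210 = true :=
  allLt_extend _ 11655 555 12210 rfl fin_upto20 fin_piece21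
theorem fin_upto22 : allLt (finRow tabs ptabs 120248) 12765 = true :=
  allLt_extend _ 12210 555 12765 rfl fin_upto21 fin_piece22
theorem fin_upto23 : allLt (finRow tabs ptabs 120248) 13320 = true :=
  allLt_extend _ 12765 555 13320 rfl fin_upto22 fin_piece23
theorem fin_upto24 : allLt (finRow tabs ptabs 120248) 13875 = true :=
  allLt_extend _ 13320 555 13875 rfl fin_upto23 fin_piece24
theorem fin_upto25 : allLt (finRow tabs ptabs 120248) 14080 = true :=
  allLt_extend _ 13875 205 14080 rfl fin_upto24 fin_piece25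
theorem fin_ok : checkFin tabs ptabs 120248 = true := (checkFin_eq tabs ptabs 120248).trans fin_upto25
theorem inv_upto0 : allLt (invRow ptabs) 2222 = true :=
  allLt_extend _ 0 2222 2222 rfl (allLt_zero _) inv_piece0
theorem inv_upto1 : allLt (invRow ptabs) 4444 = true :=
  allLt_extend _ 2222 2222 4444 rfl inv_upto0 inv_piece1
theorem inv_upto2 : allLt (invRow ptabs) 6666 = true :=
  allLt_extend _ 4444 2222 6666 rfl inv_upto1 inv_piece2
theorem inv_upto3 : allLt (invRow ptabs) 8888 = true :=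
  allLt_extend _ 6666 2222 8888 rfl inv_upto2 inv_piece3
theorem inv_upto4 : allLt (invRow ptabs) 11110 = true :=
  allLt_extend _ 8888 2222 11110 rfl inv_upto3 inv_piece4
theorem inv_upto5 : allLt (invRow ptabs) 13332 = true :=
  allLt_extend _ 11110 2222 13332 rfl inv_upto4 inv_piece5
theorem inv_upto6 : allLt (invRow ptabs) 14080 = true :=
  allLt_extend _ 13332 748 14080 rfl inv_upto5 inv_piece6
theorem inv_ok : invOk ptabs = true := (invOk_eq ptabs).trans inv_upto6
theorem defs_upto0 : allLt (defOk tabs) 15696 = true :=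
  allLt_extend _ 0 15696 15696 rfl (allLt_zero _) defs_piece0
theorem defs_ok : checkDefs tabs = true := (checkDefs_eq tabs).trans defs_upto0
theorem par_upto0 : allLt (parRow ptabs) 14080 = true :=
  allLt_extend _ 0 14080 14080 rfl (allLt_zero _) par_piece0
theorem par_ok : parOk ptabs = true := (parOk_eq ptabs).trans par_upto0
theorem perm_g0_upto0 : TraceFix ptabs.perm tabs.word 8 1 14080 :=
  traceFix_extend _ _ letL.get 1023 14 16383 perm_eq 8 1 0 14080 14080 rfl (traceFix_zero _ _ 8 1) perm_piece_0_0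
theorem perm_g0 : ∀ r, 8 ≤ r → r < 8 + 1 → relOk ptabs (tabs.word r) 0 ptabs.n = true :=
  relOk_of_traceFix ptabs tabs.word 8 1 perm_g0_upto0
theorem perm_g1_upto0 : TraceFix ptabs.perm tabs.word 9 1 14080 :=
  traceFix_extend _ _ letL.get 1023 14 16383 perm_eq 9 1 0 14080 14080 rfl (traceFix_zero _ _ 9 1) perm_piece_1_0
theorem perm_g1 : ∀ r, 9 ≤ r → r < 9 + 1 → relOk ptabs (tabs.word r) 0 ptabs.n = true :=
  relOk_of_traceFix ptabs tabs.word 9 1 perm_g1_upto0
theorem perm_g2_upto0 : TraceFix ptabs.perm tabs.word 10 1 14080 :=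
  traceFix_extend _ _ letL.get 1023 14 16383 perm_eq 10 1 0 14080 14080 rfl (traceFix_zero _ _ 10 1) perm_piece_2_0
theorem perm_g2 : ∀ r, 10 ≤ r → r < 10 + 1 → relOk ptabs (tabs.word r) 0 ptabs.n = true :=
  relOk_of_traceFix ptabs tabs.word 10 1 perm_g2_upto0
theorem perm_g3_upto0 : TraceFix ptabs.perm tabs.word 11 1 14080 :=
  traceFix_extend _ _ letL.get 1023 14 16383 perm_eq 11 1 0 14080 14080 rfl (traceFix_zero _ _ 11 1) perm_piece_3_0
theorem perm_g3 : ∀ r, 11 ≤ r → r < 11 + 1 → relOk ptabs (tabs.word r) 0 ptabs.n = true :=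
  relOk_of_traceFix ptabs tabs.word 11 1 perm_g3_upto0
theorem perm_g4_upto0 : TraceFix ptabs.perm tabs.word 12 1 14080 :=
  traceFix_extend _ _ letL.get 1023 14 16383 perm_eq 12 1 0 14080 14080 rfl (traceFix_zero _ _ 12 1) perm_piece_4_0
theorem perm_g4 : ∀ r, 12 ≤ r → r < 12 + 1 → relOk ptabs (tabs.word r) 0 ptabs.n = true :=
  relOk_of_traceFix ptabs tabs.word 12 1 perm_g4_upto0
theorem perm_g5_upto0 : TraceFix ptabs.perm tabs.word 13 1 14080 :=
  traceFix_extend _ _ letL.get 1023 14 16383 perm_eq 13 1 0 14080 14080 rfl (traceFix_zero _ _ 13 1) perm_piece_5_0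
theorem perm_g5 : ∀ r, 13 ≤ r → r < 13 + 1 → relOk ptabs (tabs.word r) 0 ptabs.n = true :=
  relOk_of_traceFix ptabs tabs.word 13 1 perm_g5_upto0
theorem perm_g6_upto0 : TraceFix ptabs.perm tabs.word 14 1 14080 :=
  traceFix_extend _ _ letL.get 1023 14 16383 perm_eq 14 1 0 14080 14080 rfl (traceFix_zero _ _ 14 1) perm_piece_6_0
theorem perm_g6 : ∀ r, 14 ≤ r → r < 14 + 1 → relOk ptabs (tabs.word r) 0 ptabs.n = true :=
  relOk_of_traceFix ptabs tabs.word 14 1 perm_g6_upto0
theorem perm_g7_upto0 : TraceFix ptabs.perm tabs.word 15 1 14080 :=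
  traceFix_extend _ _ letL.get 1023 14 16383 perm_eq 15 1 0 14080 14080 rfl (traceFix_zero _ _ 15 1) perm_piece_7_0
theorem perm_g7 : ∀ r, 15 ≤ r → r < 15 + 1 → relOk ptabs (tabs.word r) 0 ptabs.n = true :=
  relOk_of_traceFix ptabs tabs.word 15 1 perm_g7_upto0
theorem perm_g8_upto0 : TraceFix ptabs.perm tabs.word 16 1 14080 :=
  traceFix_extend _ _ letL.get 1023 14 16383 perm_eq 16 1 0 14080 14080 rfl (traceFix_zero _ _ 16 1) perm_piece_8_0
theorem perm_g8 : ∀ r, 16 ≤ r → r < 16 + 1 → relOk ptabs (tabs.word r) 0 ptabs.n = true :=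
  relOk_of_traceFix ptabs tabs.word 16 1 perm_g8_upto0
theorem perm_g9_upto0 : TraceFix ptabs.perm tabs.word 17 1 14080 :=
  traceFix_extend _ _ letL.get 1023 14 16383 perm_eq 17 1 0 14080 14080 rfl (traceFix_zero _ _ 17 1) perm_piece_9_0
theorem perm_g9 : ∀ r, 17 ≤ r → r < 17 + 1 → relOk ptabs (tabs.word r) 0 ptabs.n = true :=
  relOk_of_traceFix ptabs tabs.word 17 1 perm_g9_upto0
theorem perm_g10_upto0 : TraceFix ptabs.perm tabs.word 18 1 14080 :=
  traceFix_extend _ _ letL.get 1023 14 16383 perm_eq 18 1 0 14080 14080 rfl (traceFix_zero _ _ 18 1) perm_piece_10_0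
theorem perm_g10 : ∀ r, 18 ≤ r → r < 18 + 1 → relOk ptabs (tabs.word r) 0 ptabs.n = true :=
  relOk_of_traceFix ptabs tabs.word 18 1 perm_g10_upto0
theorem perm_g11_upto0 : TraceFix ptabs.perm tabs.word 19 1 14080 :=
  traceFix_extend _ _ letL.get 1023 14 16383 perm_eq 19 1 0 14080 14080 rfl (traceFix_zero _ _ 19 1) perm_piece_11_0
theorem perm_g11 : ∀ r, 19 ≤ r → r < 19 + 1 → relOk ptabs (tabs.word r) 0 ptabs.n = true :=
  relOk_of_traceFix ptabs tabs.word 19 1 perm_g11_upto0
theorem perm_g12_upto0 : TraceFix ptabs.perm tabs.word 20 1 14080 :=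
  traceFix_extend _ _ letL.get 1023 14 16383 perm_eq 20 1 0 14080 14080 rfl (traceFix_zero _ _ 20 1) perm_piece_12_0
theorem perm_g12 : ∀ r, 20 ≤ r → r < 20 + 1 → relOk ptabs (tabs.word r) 0 ptabs.n = true :=
  relOk_of_traceFix ptabs tabs.word 20 1 perm_g12_upto0
theorem perm_g13_upto0 : TraceFix ptabs.perm tabs.word 21 1 14080 :=
  traceFix_extend _ _ letL.get 1023 14 16383 perm_eq 21 1 0 14080 14080 rfl (traceFix_zero _ _ 21 1) perm_piece_13_0
theorem perm_g13 : ∀ r, 21 ≤ r → r < 21 + 1 → relOk ptabs (tabs.word r) 0 ptabs.n = true :=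
  relOk_of_traceFix ptabs tabs.word 21 1 perm_g13_upto0
theorem perm_g14_upto0 : TraceFix ptabs.perm tabs.word 22 1 14080 :=
  traceFix_extend _ _ letL.get 1023 14 16383 perm_eq 22 1 0 14080 14080 rfl (traceFix_zero _ _ 22 1) perm_piece_14_0
theorem perm_g14 : ∀ r, 22 ≤ r → r < 22 + 1 → relOk ptabs (tabs.word r) 0 ptabs.n = true :=
  relOk_of_traceFix ptabs tabs.word 22 1 perm_g14_upto0
theorem perm_g15_upto0 : TraceFix ptabs.perm tabs.word 23 1 14080 :=
  traceFix_extend _ _ letL.get 1023 14 16383 perm_eq 23 1 0 14080 14080 rfl (traceFix_zero _ _ 23 1) perm_piece_15_0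
theorem perm_g15 : ∀ r, 23 ≤ r → r < 23 + 1 → relOk ptabs (tabs.word r) 0 ptabs.n = true :=
  relOk_of_traceFix ptabs tabs.word 23 1 perm_g15_upto0
theorem perm_g16_upto0 : TraceFix ptabs.perm tabs.word 24 1 14080 :=
  traceFix_extend _ _ letL.get 1023 14 16383 perm_eq 24 1 0 14080 14080 rfl (traceFix_zero _ _ 24 1) perm_piece_16_0
theorem perm_g16 : ∀ r, 24 ≤ r → r < 24 + 1 → relOk ptabs (tabs.word r) 0 ptabs.n = true :=
  relOk_of_traceFix ptabs tabs.word 24 1 perm_g16_upto0
theorem perm_g17_upto0 : TraceFix ptabs.perm tabs.word 25 1 14080 :=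
  traceFix_extend _ _ letL.get 1023 14 16383 perm_eq 25 1 0 14080 14080 rfl (traceFix_zero _ _ 25 1) perm_piece_17_0
theorem perm_g17 : ∀ r, 25 ≤ r → r < 25 + 1 → relOk ptabs (tabs.word r) 0 ptabs.n = true :=
  relOk_of_traceFix ptabs tabs.word 25 1 perm_g17_upto0
theorem perm_g18_upto0 : TraceFix ptabs.perm tabs.word 26 1 14080 :=
  traceFix_extend _ _ letL.get 1023 14 16383 perm_eq 26 1 0 14080 14080 rfl (traceFix_zero _ _ 26 1) perm_piece_18_0
theorem perm_g18 : ∀ r, 26 ≤ r → r < 26 + 1 → relOk ptabs (tabs.word r) 0 ptabs.n = true :=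
  relOk_of_traceFix ptabs tabs.word 26 1 perm_g18_upto0
theorem perm_g19_upto0 : TraceFix ptabs.perm tabs.word 27 1 14080 :=
  traceFix_extend _ _ letL.get 1023 14 16383 perm_eq 27 1 0 14080 14080 rfl (traceFix_zero _ _ 27 1) perm_piece_19_0
theorem perm_g19 : ∀ r, 27 ≤ r → r < 27 + 1 → relOk ptabs (tabs.word r) 0 ptabs.n = true :=
  relOk_of_traceFix ptabs tabs.word 27 1 perm_g19_upto0
theorem perm_g20_upto0 : TraceFix ptabs.perm tabs.word 28 1 14080 :=
  traceFix_extend _ _ letL.get 1023 14 16383 perm_eq 28 1 0 14080 14080 rfl (traceFix_zero _ _ 28 1) perm_piece_20_0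
theorem perm_g20 : ∀ r, 28 ≤ r → r < 28 + 1 → relOk ptabs (tabs.word r) 0 ptabs.n = true :=
  relOk_of_traceFix ptabs tabs.word 28 1 perm_g20_upto0
theorem perm_g21_upto0 : TraceFix ptabs.perm tabs.word 29 1 14080 :=
  traceFix_extend _ _ letL.get 1023 14 16383 perm_eq 29 1 0 14080 14080 rfl (traceFix_zero _ _ 29 1) perm_piece_21_0
theorem perm_g21 : ∀ r, 29 ≤ r → r < 29 + 1 → relOk ptabs (tabs.word r) 0 ptabs.n = true :=
  relOk_of_traceFix ptabs tabs.word 29 1 perm_g21_upto0
theorem perm_g22_upto0 : TraceFix ptabs.perm tabs.word 30 1 14080 :=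
  traceFix_extend _ _ letL.get 1023 14 16383 perm_eq 30 1 0 14080 14080 rfl (traceFix_zero _ _ 30 1) perm_piece_22_0
theorem perm_g22 : ∀ r, 30 ≤ r → r < 30 + 1 → relOk ptabs (tabs.word r) 0 ptabs.n = true :=
  relOk_of_traceFix ptabs tabs.word 30 1 perm_g22_upto0
theorem perm_g23_upto0 : TraceFix ptabs.perm tabs.word 31 1 14080 :=
  traceFix_extend _ _ letL.get 1023 14 16383 perm_eq 31 1 0 14080 14080 rfl (traceFix_zero _ _ 31 1) perm_piece_23_0
theorem perm_g23 : ∀ r, 31 ≤ r → r < 31 + 1 → relOk ptabs (tabs.word r) 0 ptabs.n = true :=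
  relOk_of_traceFix ptabs tabs.word 31 1 perm_g23_upto0
theorem perm_g24_upto0 : TraceFix ptabs.perm tabs.word 32 1 14080 :=
  traceFix_extend _ _ letL.get 1023 14 16383 perm_eq 32 1 0 14080 14080 rfl (traceFix_zero _ _ 32 1) perm_piece_24_0
theorem perm_g24 : ∀ r, 32 ≤ r → r < 32 + 1 → relOk ptabs (tabs.word r) 0 ptabs.n = true :=
  relOk_of_traceFix ptabs tabs.word 32 1 perm_g24_upto0
theorem perm_g25_upto0 : TraceFix ptabs.perm tabs.word 33 1 14080 :=
  traceFix_extend _ _ letL.get 1023 14 16383 perm_eq 33 1 0 14080 14080 rfl (traceFix_zero _ _ 33 1) perm_piece_25_0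
theorem perm_g25 : ∀ r, 33 ≤ r → r < 33 + 1 → relOk ptabs (tabs.word r) 0 ptabs.n = true :=
  relOk_of_traceFix ptabs tabs.word 33 1 perm_g25_upto0
theorem perm_g26_upto0 : TraceFix ptabs.perm tabs.word 34 1 14080 :=
  traceFix_extend _ _ letL.get 1023 14 16383 perm_eq 34 1 0 14080 14080 rfl (traceFix_zero _ _ 34 1) perm_piece_26_0
theorem perm_g26 : ∀ r, 34 ≤ r → r < 34 + 1 → relOk ptabs (tabs.word r) 0 ptabs.n = true :=
  relOk_of_traceFix ptabs tabs.word 34 1 perm_g26_upto0
theorem perm_g27_upto0 : TraceFix ptabs.perm tabs.word 35 1 14080 :=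
  traceFix_extend _ _ letL.get 1023 14 16383 perm_eq 35 1 0 14080 14080 rfl (traceFix_zero _ _ 35 1) perm_piece_27_0
theorem perm_g27 : ∀ r, 35 ≤ r → r < 35 + 1 → relOk ptabs (tabs.word r) 0 ptabs.n = true :=
  relOk_of_traceFix ptabs tabs.word 35 1 perm_g27_upto0
theorem perm_g28_upto0 : TraceFix ptabs.perm tabs.word 36 1 14080 :=
  traceFix_extend _ _ letL.get 1023 14 16383 perm_eq 36 1 0 14080 14080 rfl (traceFix_zero _ _ 36 1) perm_piece_28_0
theorem perm_g28 : ∀ r, 36 ≤ r → r < 36 + 1 → relOk ptabs (tabs.word r) 0 ptabs.n = true :=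
  relOk_of_traceFix ptabs tabs.word 36 1 perm_g28_upto0
theorem perm_g29_upto0 : TraceFix ptabs.perm tabs.word 37 1 14080 :=
  traceFix_extend _ _ letL.get 1023 14 16383 perm_eq 37 1 0 14080 14080 rfl (traceFix_zero _ _ 37 1) perm_piece_29_0
theorem perm_g29 : ∀ r, 37 ≤ r → r < 37 + 1 → relOk ptabs (tabs.word r) 0 ptabs.n = true :=
  relOk_of_traceFix ptabs tabs.word 37 1 perm_g29_upto0
theorem perm_g30_upto0 : TraceFix ptabs.perm tabs.word 38 1 14080 :=
  traceFix_extend _ _ letL.get 1023 14 16383 perm_eq 38 1 0 14080 14080 rfl (traceFix_zero _ _ 38 1) perm_piece_30_0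
theorem perm_g30 : ∀ r, 38 ≤ r → r < 38 + 1 → relOk ptabs (tabs.word r) 0 ptabs.n = true :=
  relOk_of_traceFix ptabs tabs.word 38 1 perm_g30_upto0
theorem perm_g31_upto0 : TraceFix ptabs.perm tabs.word 39 1 14080 :=
  traceFix_extend _ _ letL.get 1023 14 16383 perm_eq 39 1 0 14080 14080 rfl (traceFix_zero _ _ 39 1) perm_piece_31_0
theorem perm_g31 : ∀ r, 39 ≤ r → r < 39 + 1 → relOk ptabs (tabs.word r) 0 ptabs.n = true :=
  relOk_of_traceFix ptabs tabs.word 39 1 perm_g31_upto0
theorem perm_g32_upto0 : TraceFix ptabs.perm tabs.word 40 1 14080 :=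
  traceFix_extend _ _ letL.get 1023 14 16383 perm_eq 40 1 0 14080 14080 rfl (traceFix_zero _ _ 40 1) perm_piece_32_0
theorem perm_g32 : ∀ r, 40 ≤ r → r < 40 + 1 → relOk ptabs (tabs.word r) 0 ptabs.n = true :=
  relOk_of_traceFix ptabs tabs.word 40 1 perm_g32_upto0
theorem perm_g33_upto0 : TraceFix ptabs.perm tabs.word 41 1 14080 :=
  traceFix_extend _ _ letL.get 1023 14 16383 perm_eq 41 1 0 14080 14080 rfl (traceFix_zero _ _ 41 1) perm_piece_33_0
theorem perm_g33 : ∀ r, 41 ≤ r → r < 41 + 1 → relOk ptabs (tabs.word r) 0 ptabs.n = true :=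
  relOk_of_traceFix ptabs tabs.word 41 1 perm_g33_upto0
theorem perm_g34_upto0 : TraceFix ptabs.perm tabs.word 42 1 14080 :=
  traceFix_extend _ _ letL.get 1023 14 16383 perm_eq 42 1 0 14080 14080 rfl (traceFix_zero _ _ 42 1) perm_piece_34_0
theorem perm_g34 : ∀ r, 42 ≤ r → r < 42 + 1 → relOk ptabs (tabs.word r) 0 ptabs.n = true :=
  relOk_of_traceFix ptabs tabs.word 42 1 perm_g34_upto0
theorem perm_g35_upto0 : TraceFix ptabs.perm tabs.word 43 1 14080 :=
  traceFix_extend _ _ letL.get 1023 14 16383 perm_eq 43 1 0 14080 14080 rfl (traceFix_zero _ _ 43 1) perm_piece_35_0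
theorem perm_g35 : ∀ r, 43 ≤ r → r < 43 + 1 → relOk ptabs (tabs.word r) 0 ptabs.n = true :=
  relOk_of_traceFix ptabs tabs.word 43 1 perm_g35_upto0
theorem perm_g36_upto0 : TraceFix ptabs.perm tabs.word 44 1 14080 :=
  traceFix_extend _ _ letL.get 1023 14 16383 perm_eq 44 1 0 14080 14080 rfl (traceFix_zero _ _ 44 1) perm_piece_36_0
theorem perm_g36 : ∀ r, 44 ≤ r → r < 44 + 1 → relOk ptabs (tabs.word r) 0 ptabs.n = true :=
  relOk_of_traceFix ptabs tabs.word 44 1 perm_g36_upto0
theorem perm_g37_upto0 : TraceFix ptabs.perm tabs.word 45 1 14080 :=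
  traceFix_extend _ _ letL.get 1023 14 16383 perm_eq 45 1 0 14080 14080 rfl (traceFix_zero _ _ 45 1) perm_piece_37_0
theorem perm_g37 : ∀ r, 45 ≤ r → r < 45 + 1 → relOk ptabs (tabs.word r) 0 ptabs.n = true :=
  relOk_of_traceFix ptabs tabs.word 45 1 perm_g37_upto0
theorem perm_g38_upto0 : TraceFix ptabs.perm tabs.word 46 1 14080 :=
  traceFix_extend _ _ letL.get 1023 14 16383 perm_eq 46 1 0 14080 14080 rfl (traceFix_zero _ _ 46 1) perm_piece_38_0
theorem perm_g38 : ∀ r, 46 ≤ r → r < 46 + 1 → relOk ptabs (tabs.word r) 0 ptabs.n = true :=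
  relOk_of_traceFix ptabs tabs.word 46 1 perm_g38_upto0
theorem perm_g39_upto0 : TraceFix ptabs.perm tabs.word 47 1 14080 :=
  traceFix_extend _ _ letL.get 1023 14 16383 perm_eq 47 1 0 14080 14080 rfl (traceFix_zero _ _ 47 1) perm_piece_39_0
theorem perm_g39 : ∀ r, 47 ≤ r → r < 47 + 1 → relOk ptabs (tabs.word r) 0 ptabs.n = true :=
  relOk_of_traceFix ptabs tabs.word 47 1 perm_g39_upto0
theorem perm_g40_upto0 : TraceFix ptabs.perm tabs.word 48 1 14080 :=
  traceFix_extend _ _ letL.get 1023 14 16383 perm_eq 48 1 0 14080 14080 rfl (traceFix_zero _ _ 48 1) perm_piece_40_0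
theorem perm_g40 : ∀ r, 48 ≤ r → r < 48 + 1 → relOk ptabs (tabs.word r) 0 ptabs.n = true :=
  relOk_of_traceFix ptabs tabs.word 48 1 perm_g40_upto0
theorem perm_g41_upto0 : TraceFix ptabs.perm tabs.word 49 1 14080 :=
  traceFix_extend _ _ letL.get 1023 14 16383 perm_eq 49 1 0 14080 14080 rfl (traceFix_zero _ _ 49 1) perm_piece_41_0
theorem perm_g41 : ∀ r, 49 ≤ r → r < 49 + 1 → relOk ptabs (tabs.word r) 0 ptabs.n = true :=
  relOk_of_traceFix ptabs tabs.word 49 1 perm_g41_upto0
theorem perm_g42_upto0 : TraceFix ptabs.perm tabs.word 50 1 14080 :=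
  traceFix_extend _ _ letL.get 1023 14 16383 perm_eq 50 1 0 14080 14080 rfl (traceFix_zero _ _ 50 1) perm_piece_42_0
theorem perm_g42 : ∀ r, 50 ≤ r → r < 50 + 1 → relOk ptabs (tabs.word r) 0 ptabs.n = true :=
  relOk_of_traceFix ptabs tabs.word 50 1 perm_g42_upto0
theorem perm_g43_upto0 : TraceFix ptabs.perm tabs.word 51 1 14080 :=
  traceFix_extend _ _ letL.get 1023 14 16383 perm_eq 51 1 0 14080 14080 rfl (traceFix_zero _ _ 51 1) perm_piece_43_0
theorem perm_g43 : ∀ r, 51 ≤ r → r < 51 + 1 → relOk ptabs (tabs.word r) 0 ptabs.n = true :=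
  relOk_of_traceFix ptabs tabs.word 51 1 perm_g43_upto0
theorem perm_g44_upto0 : TraceFix ptabs.perm tabs.word 52 1 14080 :=
  traceFix_extend _ _ letL.get 1023 14 16383 perm_eq 52 1 0 14080 14080 rfl (traceFix_zero _ _ 52 1) perm_piece_44_0
theorem perm_g44 : ∀ r, 52 ≤ r → r < 52 + 1 → relOk ptabs (tabs.word r) 0 ptabs.n = true :=
  relOk_of_traceFix ptabs tabs.word 52 1 perm_g44_upto0
theorem perm_g45_upto0 : TraceFix ptabs.perm tabs.word 53 1 14080 :=
  traceFix_extend _ _ letL.get 1023 14 16383 perm_eq 53 1 0 14080 14080 rfl (traceFix_zero _ _ 53 1) perm_piece_45_0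
theorem perm_g45 : ∀ r, 53 ≤ r → r < 53 + 1 → relOk ptabs (tabs.word r) 0 ptabs.n = true :=
  relOk_of_traceFix ptabs tabs.word 53 1 perm_g45_upto0
theorem perm_g46_upto0 : TraceFix ptabs.perm tabs.word 54 1 14080 :=
  traceFix_extend _ _ letL.get 1023 14 16383 perm_eq 54 1 0 14080 14080 rfl (traceFix_zero _ _ 54 1) perm_piece_46_0
theorem perm_g46 : ∀ r, 54 ≤ r → r < 54 + 1 → relOk ptabs (tabs.word r) 0 ptabs.n = true :=
  relOk_of_traceFix ptabs tabs.word 54 1 perm_g46_upto0
theorem perm_g47_upto0 : TraceFix ptabs.perm tabs.word 55 1 14080 :=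
  traceFix_extend _ _ letL.get 1023 14 16383 perm_eq 55 1 0 14080 14080 rfl (traceFix_zero _ _ 55 1) perm_piece_47_0
theorem perm_g47 : ∀ r, 55 ≤ r → r < 55 + 1 → relOk ptabs (tabs.word r) 0 ptabs.n = true :=
  relOk_of_traceFix ptabs tabs.word 55 1 perm_g47_upto0
theorem perm_g48_upto0 : TraceFix ptabs.perm tabs.word 56 1 14080 :=
  traceFix_extend _ _ letL.get 1023 14 16383 perm_eq 56 1 0 14080 14080 rfl (traceFix_zero _ _ 56 1) perm_piece_48_0
theorem perm_g48 : ∀ r, 56 ≤ r → r < 56 + 1 → relOk ptabs (tabs.word r) 0 ptabs.n = true :=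
  relOk_of_traceFix ptabs tabs.word 56 1 perm_g48_upto0
theorem perm_g49_upto0 : TraceFix ptabs.perm tabs.word 57 1 14080 :=
  traceFix_extend _ _ letL.get 1023 14 16383 perm_eq 57 1 0 14080 14080 rfl (traceFix_zero _ _ 57 1) perm_piece_49_0
theorem perm_g49 : ∀ r, 57 ≤ r → r < 57 + 1 → relOk ptabs (tabs.word r) 0 ptabs.n = true :=
  relOk_of_traceFix ptabs tabs.word 57 1 perm_g49_upto0
theorem perm_g50_upto0 : TraceFix ptabs.perm tabs.word 58 1 14080 :=
  traceFix_extend _ _ letL.get 1023 14 16383 perm_eq 58 1 0 14080 14080 rfl (traceFix_zero _ _ 58 1) perm_piece_50_0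
theorem perm_g50 : ∀ r, 58 ≤ r → r < 58 + 1 → relOk ptabs (tabs.word r) 0 ptabs.n = true :=
  relOk_of_traceFix ptabs tabs.word 58 1 perm_g50_upto0
theorem perm_g51_upto0 : TraceFix ptabs.perm tabs.word 59 1 14080 :=
  traceFix_extend _ _ letL.get 1023 14 16383 perm_eq 59 1 0 14080 14080 rfl (traceFix_zero _ _ 59 1) perm_piece_51_0
theorem perm_g51 : ∀ r, 59 ≤ r → r < 59 + 1 → relOk ptabs (tabs.word r) 0 ptabs.n = true :=
  relOk_of_traceFix ptabs tabs.word 59 1 perm_g51_upto0
theorem perm_g52_upto0 : TraceFix ptabs.perm tabs.word 60 1 14080 :=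
  traceFix_extend _ _ letL.get 1023 14 16383 perm_eq 60 1 0 14080 14080 rfl (traceFix_zero _ _ 60 1) perm_piece_52_0
theorem perm_g52 : ∀ r, 60 ≤ r → r < 60 + 1 → relOk ptabs (tabs.word r) 0 ptabs.n = true :=
  relOk_of_traceFix ptabs tabs.word 60 1 perm_g52_upto0
theorem perm_g53_upto0 : TraceFix ptabs.perm tabs.word 61 1 14080 :=
  traceFix_extend _ _ letL.get 1023 14 16383 perm_eq 61 1 0 14080 14080 rfl (traceFix_zero _ _ 61 1) perm_piece_53_0
theorem perm_g53 : ∀ r, 61 ≤ r → r < 61 + 1 → relOk ptabs (tabs.word r) 0 ptabs.n = true :=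
  relOk_of_traceFix ptabs tabs.word 61 1 perm_g53_upto0
theorem perm_g54_upto0 : TraceFix ptabs.perm tabs.word 62 1 14080 :=
  traceFix_extend _ _ letL.get 1023 14 16383 perm_eq 62 1 0 14080 14080 rfl (traceFix_zero _ _ 62 1) perm_piece_54_0
theorem perm_g54 : ∀ r, 62 ≤ r → r < 62 + 1 → relOk ptabs (tabs.word r) 0 ptabs.n = true :=
  relOk_of_traceFix ptabs tabs.word 62 1 perm_g54_upto0
theorem perm_g55_upto0 : TraceFix ptabs.perm tabs.word 63 1 14080 :=
  traceFix_extend _ _ letL.get 1023 14 16383 perm_eq 63 1 0 14080 14080 rfl (traceFix_zero _ _ 63 1) perm_piece_55_0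
theorem perm_g55 : ∀ r, 63 ≤ r → r < 63 + 1 → relOk ptabs (tabs.word r) 0 ptabs.n = true :=
  relOk_of_traceFix ptabs tabs.word 63 1 perm_g55_upto0
theorem perm_g56_upto0 : TraceFix ptabs.perm tabs.word 64 1 14080 :=
  traceFix_extend _ _ letL.get 1023 14 16383 perm_eq 64 1 0 14080 14080 rfl (traceFix_zero _ _ 64 1) perm_piece_56_0
theorem perm_g56 : ∀ r, 64 ≤ r → r < 64 + 1 → relOk ptabs (tabs.word r) 0 ptabs.n = true :=
  relOk_of_traceFix ptabs tabs.word 64 1 perm_g56_upto0
theorem perm_g57_upto0 : TraceFix ptabs.perm tabs.word 65 1 14080 :=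
  traceFix_extend _ _ letL.get 1023 14 16383 perm_eq 65 1 0 14080 14080 rfl (traceFix_zero _ _ 65 1) perm_piece_57_0
theorem perm_g57 : ∀ r, 65 ≤ r → r < 65 + 1 → relOk ptabs (tabs.word r) 0 ptabs.n = true :=
  relOk_of_traceFix ptabs tabs.word 65 1 perm_g57_upto0
theorem perm_g58_upto0 : TraceFix ptabs.perm tabs.word 66 1 14080 :=
  traceFix_extend _ _ letL.get 1023 14 16383 perm_eq 66 1 0 14080 14080 rfl (traceFix_zero _ _ 66 1) perm_piece_58_0
theorem perm_g58 : ∀ r, 66 ≤ r → r < 66 + 1 → relOk ptabs (tabs.word r) 0 ptabs.n = true :=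
  relOk_of_traceFix ptabs tabs.word 66 1 perm_g58_upto0
theorem perm_g59_upto0 : TraceFix ptabs.perm tabs.word 67 1 14080 :=
  traceFix_extend _ _ letL.get 1023 14 16383 perm_eq 67 1 0 14080 14080 rfl (traceFix_zero _ _ 67 1) perm_piece_59_0
theorem perm_g59 : ∀ r, 67 ≤ r → r < 67 + 1 → relOk ptabs (tabs.word r) 0 ptabs.n = true :=
  relOk_of_traceFix ptabs tabs.word 67 1 perm_g59_upto0
theorem perm_g60_upto0 : TraceFix ptabs.perm tabs.word 68 2 14080 :=
  traceFix_extend _ _ letL.get 1023 14 16383 perm_eq 68 2 0 14080 14080 rfl (traceFix_zero _ _ 68 2) perm_piece_60_0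
theorem perm_g60 : ∀ r, 68 ≤ r → r < 68 + 2 → relOk ptabs (tabs.word r) 0 ptabs.n = true :=
  relOk_of_traceFix ptabs tabs.word 68 2 perm_g60_upto0
theorem perm_g61_upto0 : TraceFix ptabs.perm tabs.word 70 1 14080 :=
  traceFix_extend _ _ letL.get 1023 14 16383 perm_eq 70 1 0 14080 14080 rfl (traceFix_zero _ _ 70 1) perm_piece_61_0
theorem perm_g61 : ∀ r, 70 ≤ r → r < 70 + 1 → relOk ptabs (tabs.word r) 0 ptabs.n = true :=
  relOk_of_traceFix ptabs tabs.word 70 1 perm_g61_upto0
theorem perm_g62_upto0 : TraceFix ptabs.perm tabs.word 71 1 14080 :=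
  traceFix_extend _ _ letL.get 1023 14 16383 perm_eq 71 1 0 14080 14080 rfl (traceFix_zero _ _ 71 1) perm_piece_62_0
theorem perm_g62 : ∀ r, 71 ≤ r → r < 71 + 1 → relOk ptabs (tabs.word r) 0 ptabs.n = true :=
  relOk_of_traceFix ptabs tabs.word 71 1 perm_g62_upto0
theorem perm_g63_upto0 : TraceFix ptabs.perm tabs.word 72 1 14080 :=
  traceFix_extend _ _ letL.get 1023 14 16383 perm_eq 72 1 0 14080 14080 rfl (traceFix_zero _ _ 72 1) perm_piece_63_0
theorem perm_g63 : ∀ r, 72 ≤ r → r < 72 + 1 → relOk ptabs (tabs.word r) 0 ptabs.n = true :=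
  relOk_of_traceFix ptabs tabs.word 72 1 perm_g63_upto0
theorem perm_g64_upto0 : TraceFix ptabs.perm tabs.word 73 1 14080 :=
  traceFix_extend _ _ letL.get 1023 14 16383 perm_eq 73 1 0 14080 14080 rfl (traceFix_zero _ _ 73 1) perm_piece_64_0
theorem perm_g64 : ∀ r, 73 ≤ r → r < 73 + 1 → relOk ptabs (tabs.word r) 0 ptabs.n = true :=
  relOk_of_traceFix ptabs tabs.word 73 1 perm_g64_upto0
theorem perm_g65_upto0 : TraceFix ptabs.perm tabs.word 74 1 14080 :=
  traceFix_extend _ _ letL.get 1023 14 16383 perm_eq 74 1 0 14080 14080 rfl (traceFix_zero _ _ 74 1) perm_piece_65_0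
theorem perm_g65 : ∀ r, 74 ≤ r → r < 74 + 1 → relOk ptabs (tabs.word r) 0 ptabs.n = true :=
  relOk_of_traceFix ptabs tabs.word 74 1 perm_g65_upto0
theorem perm_g66_upto0 : TraceFix ptabs.perm tabs.word 75 1 14080 :=
  traceFix_extend _ _ letL.get 1023 14 16383 perm_eq 75 1 0 14080 14080 rfl (traceFix_zero _ _ 75 1) perm_piece_66_0
theorem perm_g66 : ∀ r, 75 ≤ r → r < 75 + 1 → relOk ptabs (tabs.word r) 0 ptabs.n = true :=
  relOk_of_traceFix ptabs tabs.word 75 1 perm_g66_upto0
theorem perm_g67_upto0 : TraceFix ptabs.perm tabs.word 76 1 14080 :=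
  traceFix_extend _ _ letL.get 1023 14 16383 perm_eq 76 1 0 14080 14080 rfl (traceFix_zero _ _ 76 1) perm_piece_67_0
theorem perm_g67 : ∀ r, 76 ≤ r → r < 76 + 1 → relOk ptabs (tabs.word r) 0 ptabs.n = true :=
  relOk_of_traceFix ptabs tabs.word 76 1 perm_g67_upto0
theorem perm_g68_upto0 : TraceFix ptabs.perm tabs.word 77 2 14080 :=
  traceFix_extend _ _ letL.get 1023 14 16383 perm_eq 77 2 0 14080 14080 rfl (traceFix_zero _ _ 77 2) perm_piece_68_0
theorem perm_g68 : ∀ r, 77 ≤ r → r < 77 + 2 → relOk ptabs (tabs.word r) 0 ptabs.n = true :=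
  relOk_of_traceFix ptabs tabs.word 77 2 perm_g68_upto0
theorem perm_g69_upto0 : TraceFix ptabs.perm tabs.word 79 1 14080 :=
  traceFix_extend _ _ letL.get 1023 14 16383 perm_eq 79 1 0 14080 14080 rfl (traceFix_zero _ _ 79 1) perm_piece_69_0
theorem perm_g69 : ∀ r, 79 ≤ r → r < 79 + 1 → relOk ptabs (tabs.word r) 0 ptabs.n = true :=
  relOk_of_traceFix ptabs tabs.word 79 1 perm_g69_upto0
theorem perm_g70_upto0 : TraceFix ptabs.perm tabs.word 80 1 14080 :=
  traceFix_extend _ _ letL.get 1023 14 16383 perm_eq 80 1 0 14080 14080 rfl (traceFix_zero _ _ 80 1) perm_piece_70_0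
theorem perm_g70 : ∀ r, 80 ≤ r → r < 80 + 1 → relOk ptabs (tabs.word r) 0 ptabs.n = true :=
  relOk_of_traceFix ptabs tabs.word 80 1 perm_g70_upto0
theorem perm_g71_upto0 : TraceFix ptabs.perm tabs.word 81 1 14080 :=
  traceFix_extend _ _ letL.get 1023 14 16383 perm_eq 81 1 0 14080 14080 rfl (traceFix_zero _ _ 81 1) perm_piece_71_0
theorem perm_g71 : ∀ r, 81 ≤ r → r < 81 + 1 → relOk ptabs (tabs.word r) 0 ptabs.n = true :=
  relOk_of_traceFix ptabs tabs.word 81 1 perm_g71_upto0
theorem perm_g72_upto0 : TraceFix ptabs.perm tabs.word 82 1 14080 :=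
  traceFix_extend _ _ letL.get 1023 14 16383 perm_eq 82 1 0 14080 14080 rfl (traceFix_zero _ _ 82 1) perm_piece_72_0
theorem perm_g72 : ∀ r, 82 ≤ r → r < 82 + 1 → relOk ptabs (tabs.word r) 0 ptabs.n = true :=
  relOk_of_traceFix ptabs tabs.word 82 1 perm_g72_upto0
theorem perm_g73_upto0 : TraceFix ptabs.perm tabs.word 83 1 14080 :=
  traceFix_extend _ _ letL.get 1023 14 16383 perm_eq 83 1 0 14080 14080 rfl (traceFix_zero _ _ 83 1) perm_piece_73_0
theorem perm_g73 : ∀ r, 83 ≤ r → r < 83 + 1 → relOk ptabs (tabs.word r) 0 ptabs.n = true :=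
  relOk_of_traceFix ptabs tabs.word 83 1 perm_g73_upto0
theorem perm_g74_upto0 : TraceFix ptabs.perm tabs.word 84 1 14080 :=
  traceFix_extend _ _ letL.get 1023 14 16383 perm_eq 84 1 0 14080 14080 rfl (traceFix_zero _ _ 84 1) perm_piece_74_0
theorem perm_g74 : ∀ r, 84 ≤ r → r < 84 + 1 → relOk ptabs (tabs.word r) 0 ptabs.n = true :=
  relOk_of_traceFix ptabs tabs.word 84 1 perm_g74_upto0
theorem perm_g75_upto0 : TraceFix ptabs.perm tabs.word 85 1 14080 :=
  traceFix_extend _ _ letL.get 1023 14 16383 perm_eq 85 1 0 14080 14080 rfl (traceFix_zero _ _ 85 1) perm_piece_75_0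
theorem perm_g75 : ∀ r, 85 ≤ r → r < 85 + 1 → relOk ptabs (tabs.word r) 0 ptabs.n = true :=
  relOk_of_traceFix ptabs tabs.word 85 1 perm_g75_upto0
theorem perm_g76_upto0 : TraceFix ptabs.perm tabs.word 86 1 14080 :=
  traceFix_extend _ _ letL.get 1023 14 16383 perm_eq 86 1 0 14080 14080 rfl (traceFix_zero _ _ 86 1) perm_piece_76_0
theorem perm_g76 : ∀ r, 86 ≤ r → r < 86 + 1 → relOk ptabs (tabs.word r) 0 ptabs.n = true :=
  relOk_of_traceFix ptabs tabs.word 86 1 perm_g76_upto0
theorem perm_g77_upto0 : TraceFix ptabs.perm tabs.word 87 1 14080 :=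
  traceFix_extend _ _ letL.get 1023 14 16383 perm_eq 87 1 0 14080 14080 rfl (traceFix_zero _ _ 87 1) perm_piece_77_0
theorem perm_g77 : ∀ r, 87 ≤ r → r < 87 + 1 → relOk ptabs (tabs.word r) 0 ptabs.n = true :=
  relOk_of_traceFix ptabs tabs.word 87 1 perm_g77_upto0
theorem perm_g78_upto0 : TraceFix ptabs.perm tabs.word 88 1 14080 :=
  traceFix_extend _ _ letL.get 1023 14 16383 perm_eq 88 1 0 14080 14080 rfl (traceFix_zero _ _ 88 1) perm_piece_78_0
theorem perm_g78 : ∀ r, 88 ≤ r → r < 88 + 1 → relOk ptabs (tabs.word r) 0 ptabs.n = true :=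
  relOk_of_traceFix ptabs tabs.word 88 1 perm_g78_upto0
theorem perm_g79_upto0 : TraceFix ptabs.perm tabs.word 89 1 1111 :=
  traceFix_extend _ _ letL.get 1023 14 16383 perm_eq 89 1 0 1111 1111 rfl (traceFix_zero _ _ 89 1) perm_piece_79_0
theorem perm_g79_upto1 : TraceFix ptabs.perm tabs.word 89 1 2222 :=
  traceFix_extend _ _ letL.get 1023 14 16383 perm_eq 89 1 1111 1111 2222 rfl perm_g79_upto0 perm_piece_79_1
theorem perm_g79_upto2 : TraceFix ptabs.perm tabs.word 89 1 3333 :=
  traceFix_extend _ _ letL.get 1023 14 16383 perm_eq 89 1 2222 1111 3333 rfl perm_g79_upto1 perm_piece_79_2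
theorem perm_g79_upto3 : TraceFix ptabs.perm tabs.word 89 1 4444 :=
  traceFix_extend _ _ letL.get 1023 14 16383 perm_eq 89 1 3333 1111 4444 rfl perm_g79_upto2 perm_piece_79_3
theorem perm_g79_upto4 : TraceFix ptabs.perm tabs.word 89 1 5555 :=
  traceFix_extend _ _ letL.get 1023 14 16383 perm_eq 89 1 4444 1111 5555 rfl perm_g79_upto3 perm_piece_79_4
theorem perm_g79_upto5 : TraceFix ptabs.perm tabs.word 89 1 6666 :=
  traceFix_extend _ _ letL.get 1023 14 16383 perm_eq 89 1 5555 1111 6666 rfl perm_g79_upto4 perm_piece_79_5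
theorem perm_g79_upto6 : TraceFix ptabs.perm tabs.word 89 1 7777 :=
  traceFix_extend _ _ letL.get 1023 14 16383 perm_eq 89 1 6666 1111 7777 rfl perm_g79_upto5 perm_piece_79_6
theorem perm_g79_upto7 : TraceFix ptabs.perm tabs.word 89 1 8888 :=
  traceFix_extend _ _ letL.get 1023 14 16383 perm_eq 89 1 7777 1111 8888 rfl perm_g79_upto6 perm_piece_79_7
theorem perm_g79_upto8 : TraceFix ptabs.perm tabs.word 89 1 9999 :=
  traceFix_extend _ _ letL.get 1023 14 16383 perm_eq 89 1 8888 1111 9999 rfl perm_g79_upto7 perm_piece_79_8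
theorem perm_g79_upto9 : TraceFix ptabs.perm tabs.word 89 1 11110 :=
  traceFix_extend _ _ letL.get 1023 14 16383 perm_eq 89 1 9999 1111 11110 rfl perm_g79_upto8 perm_piece_79_9
theorem perm_g79_upto10 : TraceFix ptabs.perm tabs.word 89 1 12221 :=
  traceFix_extend _ _ letL.get 1023 14 16383 perm_eq 89 1 11110 1111 12221 rfl perm_g79_upto9 perm_piece_79_10
theorem perm_g79_upto11 : TraceFix ptabs.perm tabs.word 89 1 13332 :=
  traceFix_extend _ _ letL.get 1023 14 16383 perm_eq 89 1 12221 1111 13332 rfl perm_g79_upto10 perm_piece_79_11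
theorem perm_g79_upto12 : TraceFix ptabs.perm tabs.word 89 1 14080 :=
  traceFix_extend _ _ letL.get 1023 14 16383 perm_eq 89 1 13332 748 14080 rfl perm_g79_upto11 perm_piece_79_12
theorem perm_g79 : ∀ r, 89 ≤ r → r < 89 + 1 → relOk ptabs (tabs.word r) 0 ptabs.n = true :=
  relOk_of_traceFix ptabs tabs.word 89 1 perm_g79_upto12
theorem perm_g80_upto0 : TraceFix ptabs.perm tabs.word 90 1 1587 :=
  traceFix_extend _ _ letL.get 1023 14 16383 perm_eq 90 1 0 1587 1587 rfl (traceFix_zero _ _ 90 1) perm_piece_80_0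
theorem perm_g80_upto1 : TraceFix ptabs.perm tabs.word 90 1 3174 :=
  traceFix_extend _ _ letL.get 1023 14 16383 perm_eq 90 1 1587 1587 3174 rfl perm_g80_upto0 perm_piece_80_1
theorem perm_g80_upto2 : TraceFix ptabs.perm tabs.word 90 1 4761 :=
  traceFix_extend _ _ letL.get 1023 14 16383 perm_eq 90 1 3174 1587 4761 rfl perm_g80_upto1 perm_piece_80_2
theorem perm_g80_upto3 : TraceFix ptabs.perm tabs.word 90 1 6348 :=
  traceFix_extend _ _ letL.get 1023 14 16383 perm_eq 90 1 4761 1587 6348 rfl perm_g80_upto2 perm_piece_80_3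
theorem perm_g80_upto4 : TraceFix ptabs.perm tabs.word 90 1 7935 :=
  traceFix_extend _ _ letL.get 1023 14 16383 perm_eq 90 1 6348 1587 7935 rfl perm_g80_upto3 perm_piece_80_4
theorem perm_g80_upto5 : TraceFix ptabs.perm tabs.word 90 1 9522 :=
  traceFix_extend _ _ letL.get 1023 14 16383 perm_eq 90 1 7935 1587 9522 rfl perm_g80_upto4 perm_piece_80_5
theorem perm_g80_upto6 : TraceFix ptabs.perm tabs.word 90 1 11109 :=
  traceFix_extend _ _ letL.get 1023 14 16383 perm_eq 90 1 9522 1587 11109 rfl perm_g80_upto5 perm_piece_80_6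
theorem perm_g80_upto7 : TraceFix ptabs.perm tabs.word 90 1 12696 :=
  traceFix_extend _ _ letL.get 1023 14 16383 perm_eq 90 1 11109 1587 12696 rfl perm_g80_upto6 perm_piece_80_7
theorem perm_g80_upto8 : TraceFix ptabs.perm tabs.word 90 1 14080 :=
  traceFix_extend _ _ letL.get 1023 14 16383 perm_eq 90 1 12696 1384 14080 rfl perm_g80_upto7 perm_piece_80_8
theorem perm_g80 : ∀ r, 90 ≤ r → r < 90 + 1 → relOk ptabs (tabs.word r) 0 ptabs.n = true :=
  relOk_of_traceFix ptabs tabs.word 90 1 perm_g80_upto8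
theorem perm_g81_upto0 : TraceFix ptabs.perm tabs.word 91 1 1587 :=
  traceFix_extend _ _ letL.get 1023 14 16383 perm_eq 91 1 0 1587 1587 rfl (traceFix_zero _ _ 91 1) perm_piece_81_0
theorem perm_g81_upto1 : TraceFix ptabs.perm tabs.word 91 1 3174 :=
  traceFix_extend _ _ letL.get 1023 14 16383 perm_eq 91 1 1587 1587 3174 rfl perm_g81_upto0 perm_piece_81_1
theorem perm_g81_upto2 : TraceFix ptabs.perm tabs.word 91 1 4761 :=
  traceFix_extend _ _ letL.get 1023 14 16383 perm_eq 91 1 3174 1587 4761 rfl perm_g81_upto1 perm_piece_81_2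
theorem perm_g81_upto3 : TraceFix ptabs.perm tabs.word 91 1 6348 :=
  traceFix_extend _ _ letL.get 1023 14 16383 perm_eq 91 1 4761 1587 6348 rfl perm_g81_upto2 perm_piece_81_3
theorem perm_g81_upto4 : TraceFix ptabs.perm tabs.word 91 1 7935 :=
  traceFix_extend _ _ letL.get 1023 14 16383 perm_eq 91 1 6348 1587 7935 rfl perm_g81_upto3 perm_piece_81_4
theorem perm_g81_upto5 : TraceFix ptabs.perm tabs.word 91 1 9522 :=
  traceFix_extend _ _ letL.get 1023 14 16383 perm_eq 91 1 7935 1587 9522 rfl perm_g81_upto4 perm_piece_81_5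
theorem perm_g81_upto6 : TraceFix ptabs.perm tabs.word 91 1 11109 :=
  traceFix_extend _ _ letL.get 1023 14 16383 perm_eq 91 1 9522 1587 11109 rfl perm_g81_upto5 perm_piece_81_6
theorem perm_g81_upto7 : TraceFix ptabs.perm tabs.word 91 1 12696 :=
  traceFix_extend _ _ letL.get 1023 14 16383 perm_eq 91 1 11109 1587 12696 rfl perm_g81_upto6 perm_piece_81_7
theorem perm_g81_upto8 : TraceFix ptabs.perm tabs.word 91 1 14080 :=
  traceFix_extend _ _ letL.get 1023 14 16383 perm_eq 91 1 12696 1384 14080 rfl perm_g81_upto7 perm_piece_81_8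
theorem perm_g81 : ∀ r, 91 ≤ r → r < 91 + 1 → relOk ptabs (tabs.word r) 0 ptabs.n = true :=
  relOk_of_traceFix ptabs tabs.word 91 1 perm_g81_upto8
theorem perm_all : ∀ r, 8 ≤ r → r < 92 → relOk ptabs (tabs.word r) 0 ptabs.n = true := by
  intro r h1 h2
  by_cases c0 : r < 9
  · exact perm_g0 r (by omega) (by omega)
  by_cases c1 : r < 10
  · exact perm_g1 r (by omega) (by omega)
  by_cases c2 : r < 11
  · exact perm_g2 r (by omega) (by omega)
  by_cases c3 : r < 12
  · exact perm_g3 r (by omega) (by omega)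
  by_cases c4 : r < 13
  · exact perm_g4 r (by omega) (by omega)
  by_cases c5 : r < 14
  · exact perm_g5 r (by omega) (by omega)
  by_cases c6 : r < 15
  · exact perm_g6 r (by omega) (by omega)
  by_cases c7 : r < 16
  · exact perm_g7 r (by omega) (by omega)
  by_cases c8 : r < 17
  · exact perm_g8 r (by omega) (by omega)
  by_cases c9 : r < 18
  · exact perm_g9 r (by omega) (by omega)
  by_cases c10 : r < 19
  · exact perm_g10 r (by omega) (by omega)
  by_cases c11 : r < 20
  · exact perm_g11 r (by omega) (by omega)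
  by_cases c12 : r < 21
  · exact perm_g12 r (by omega) (by omega)
  by_cases c13 : r < 22
  · exact perm_g13 r (by omega) (by omega)
  by_cases c14 : r < 23
  · exact perm_g14 r (by omega) (by omega)
  by_cases c15 : r < 24
  · exact perm_g15 r (by omega) (by omega)
  by_cases c16 : r < 25
  · exact perm_g16 r (by omega) (by omega)
  by_cases c17 : r < 26
  · exact perm_g17 r (by omega) (by omega)
  by_cases c18 : r < 27
  · exact perm_g18 r (by omega) (by omega)
  by_cases c19 : r < 28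
  · exact perm_g19 r (by omega) (by omega)
  by_cases c20 : r < 29
  · exact perm_g20 r (by omega) (by omega)
  by_cases c21 : r < 30
  · exact perm_g21 r (by omega) (by omega)
  by_cases c22 : r < 31
  · exact perm_g22 r (by omega) (by omega)
  by_cases c23 : r < 32
  · exact perm_g23 r (by omega) (by omega)
  by_cases c24 : r < 33
  · exact perm_g24 r (by omega) (by omega)
  by_cases c25 : r < 34
  · exact perm_g25 r (by omega) (by omega)
  by_cases c26 : r < 35
  · exact perm_g26 r (by omega) (by omega)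
  by_cases c27 : r < 36
  · exact perm_g27 r (by omega) (by omega)
  by_cases c28 : r < 37
  · exact perm_g28 r (by omega) (by omega)
  by_cases c29 : r < 38
  · exact perm_g29 r (by omega) (by omega)
  by_cases c30 : r < 39
  · exact perm_g30 r (by omega) (by omega)
  by_cases c31 : r < 40
  · exact perm_g31 r (by omega) (by omega)
  by_cases c32 : r < 41
  · exact perm_g32 r (by omega) (by omega)
  by_cases c33 : r < 42
  · exact perm_g33 r (by omega) (by omega)
  by_cases c34 : r < 43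
  · exact perm_g34 r (by omega) (by omega)
  by_cases c35 : r < 44
  · exact perm_g35 r (by omega) (by omega)
  by_cases c36 : r < 45
  · exact perm_g36 r (by omega) (by omega)
  by_cases c37 : r < 46
  · exact perm_g37 r (by omega) (by omega)
  by_cases c38 : r < 47
  · exact perm_g38 r (by omega) (by omega)
  by_cases c39 : r < 48
  · exact perm_g39 r (by omega) (by omega)
  by_cases c40 : r < 49
  · exact perm_g40 r (by omega) (by omega)
  by_cases c41 : r < 50
  · exact perm_g41 r (by omega) (by omega)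
  by_cases c42 : r < 51
  · exact perm_g42 r (by omega) (by omega)
  by_cases c43 : r < 52
  · exact perm_g43 r (by omega) (by omega)
  by_cases c44 : r < 53
  · exact perm_g44 r (by omega) (by omega)
  by_cases c45 : r < 54
  · exact perm_g45 r (by omega) (by omega)
  by_cases c46 : r < 55
  · exact perm_g46 r (by omega) (by omega)
  by_cases c47 : r < 56
  · exact perm_g47 r (by omega) (by omega)
  by_cases c48 : r < 57
  · exact perm_g48 r (by omega) (by omega)
  by_cases c49 : r < 58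
  · exact perm_g49 r (by omega) (by omega)
  by_cases c50 : r < 59
  · exact perm_g50 r (by omega) (by omega)
  by_cases c51 : r < 60
  · exact perm_g51 r (by omega) (by omega)
  by_cases c52 : r < 61
  · exact perm_g52 r (by omega) (by omega)
  by_cases c53 : r < 62
  · exact perm_g53 r (by omega) (by omega)
  by_cases c54 : r < 63
  · exact perm_g54 r (by omega) (by omega)
  by_cases c55 : r < 64
  · exact perm_g55 r (by omega) (by omega)
  by_cases c56 : r < 65
  · exact perm_g56 r (by omega) (by omega)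
  by_cases c57 : r < 66
  · exact perm_g57 r (by omega) (by omega)
  by_cases c58 : r < 67
  · exact perm_g58 r (by omega) (by omega)
  by_cases c59 : r < 68
  · exact perm_g59 r (by omega) (by omega)
  by_cases c60 : r < 70
  · exact perm_g60 r (by omega) (by omega)
  by_cases c61 : r < 71
  · exact perm_g61 r (by omega) (by omega)
  by_cases c62 : r < 72
  · exact perm_g62 r (by omega) (by omega)
  by_cases c63 : r < 73
  · exact perm_g63 r (by omega) (by omega)
  by_cases c64 : r < 74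
  · exact perm_g64 r (by omega) (by omega)
  by_cases c65 : r < 75
  · exact perm_g65 r (by omega) (by omega)
  by_cases c66 : r < 76
  · exact perm_g66 r (by omega) (by omega)
  by_cases c67 : r < 77
  · exact perm_g67 r (by omega) (by omega)
  by_cases c68 : r < 79
  · exact perm_g68 r (by omega) (by omega)
  by_cases c69 : r < 80
  · exact perm_g69 r (by omega) (by omega)
  by_cases c70 : r < 81
  · exact perm_g70 r (by omega) (by omega)
  by_cases c71 : r < 82
  · exact perm_g71 r (by omega) (by omega)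
  by_cases c72 : r < 83
  · exact perm_g72 r (by omega) (by omega)
  by_cases c73 : r < 84
  · exact perm_g73 r (by omega) (by omega)
  by_cases c74 : r < 85
  · exact perm_g74 r (by omega) (by omega)
  by_cases c75 : r < 86
  · exact perm_g75 r (by omega) (by omega)
  by_cases c76 : r < 87
  · exact perm_g76 r (by omega) (by omega)
  by_cases c77 : r < 88
  · exact perm_g77 r (by omega) (by omega)
  by_cases c78 : r < 89
  · exact perm_g78 r (by omega) (by omega)
  by_cases c79 : r < 90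
  · exact perm_g79 r (by omega) (by omega)
  by_cases c80 : r < 91
  · exact perm_g80 r (by omega) (by omega)
  by_cases c81 : r < 92
  · exact perm_g81 r (by omega) (by omega)
  omega
theorem subfix_all : ∀ r, r < 8 → relOk ptabs (tabs.word r) 0 1 = true := allLt_sound _ _ subfix_ok
end Cfsg.Agent.Helper28.Fi22a
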