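import Cfsg.Agent.Helper28.Fi22a.D0
import Cfsg.Agent.Helper28.Fi22a.D1
import Cfsg.Agent.Helper28.Fi22a.D2
set_option autoImplicit false
set_option maxRecDepth 1000000
namespace Cfsg.Agent.Helper28.Fi22a
open Cfsg.Agent.Helper28
def factsB : BTr := (.node 60416 (.node 29696 (.node 14336 (.node 7168 (.node 3072 (.node 1024 (.leaf lf0) (.node 2048 (.leaf lf1) (.leaf lf2))) (.node 5120 (.node 4096 (.leaf lf3) (.leaf lf4)) (.node 6144 (.leaf lf5) (.leaf lf6)))) (.node 10240 (.node 8192 (.leaf lf7) (.node 9216 (.leaf lf8) (.leaf lf9))) (.node 12288 (.node 11264 (.leaf lf10) (.leaf lf11)) (.node 13312 (.leaf lf12) (.leaf lf13))))) (.node 21504 (.node 17408 (.node 15360 (.leaf lf14) (.node 16384 (.leaf lf15) (.leaf lf16))) (.node 19456 (.node 18432 (.leaf lf17) (.leaf lf18)) (.node 20480 (.leaf lf19) (.leaf lf20)))) (.node 25600 (.node 23552 (.node 22528 (.leaf lf21) (.leaf lf22)) (.node 24576 (.leaf lf23) (.leaf lf24))) (.node 27648 (.node 26624 (.leaf lf25) (.leaf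 lf26)) (.node 28672 (.leaf lf27) (.leaf lf28)))))) (.node 45056 (.node 36864 (.node 32768 (.node 30720 (.leaf lf29) (.node 31744 (.leaf lf30) (.leaf lf31))) (.node 34816 (.node 33792 (.leaf lf32) (.leaf lf33)) (.node 35840 (.leaf lf34) (.leaf lf35)))) (.node 40960 (.node 38912 (.node 37888 (.leaf lf36) (.leaf lf37)) (.node 39936 (.leaf lf38) (.leaf lf39))) (.node 43008 (.node 41984 (.leaf lf40) (.leaf lf41)) (.node 44032 (.leaf lf42) (.leaf lf43))))) (.node 52224 (.node 48128 (.node 46080 (.leaf lf44) (.node 47104 (.leaf lf45) (.leaf lf46))) (.node 50176 (.node 49152 (.leaf lf47) (.leaf lf48)) (.node 51200 (.leaf lf49) (.leaf lf50)))) (.node 56320 (.node 54272 (.node 53248 (.leaf lf51) (.leaf lf52)) (.node 55296 (.leaf lf53) (.leaf lf54))) (.node 58368 (.node 57344 (.leaf lf55) (.leaf lf56)) (.node 59392 (.leaf lf57) (.leaf lf58))))))) (.node 90112 (.node 74752 (.node 67584 (.node 63488 (.node 61440 (.leaf lf59) (.node 62464 (.leaf lf60) (.leaf lf61))) (.node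 65536 (.node 64512 (.leaf lf62) (.leaf lf63)) (.node 66560 (.leaf lf64) (.leaf lf65)))) (.node 70656 (.node 68608 (.leaf lf66) (.node 69632 (.leaf lf67) (.leaf lf68))) (.node 72704 (.node 71680 (.leaf lf69) (.leaf lf70)) (.node 73728 (.leaf lf71) (.leaf lf72))))) (.node 81920 (.node 77824 (.node 75776 (.leaf lf73) (.node 76800 (.leaf lf74) (.leaf lf75))) (.node 79872 (.node 78848 (.leaf lf76) (.leaf lf77)) (.node 80896 (.leaf lf78) (.leaf lf79)))) (.node 86016 (.node 83968 (.node 82944 (.leaf lf80) (.leaf lf81)) (.node 84992 (.leaf lf82) (.leaf lf83))) (.node 88064 (.node 87040 (.leaf lf84) (.leaf lf85)) (.node 89088 (.leaf lf86) (.leaf lf87)))))) (.node 105472 (.node 97280 (.node 93184 (.node 91136 (.leaf lf88) (.node 92160 (.leaf lf89) (.leaf lf90))) (.node 95232 (.node 94208 (.leaf lf91) (.leaf lf92)) (.node 96256 (.leaf lf93) (.leaf lf94)))) (.node 101376 (.node 99328 (.node 98304 (.leaf lf95) (.leaf lf96)) (.node 100352 (.leaf lf97) (.leaf lf98))) (.node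 103424 (.node 102400 (.leaf lf99) (.leaf lf100)) (.node 104448 (.leaf lf101) (.leaf lf102))))) (.node 112640 (.node 108544 (.node 106496 (.leaf lf103) (.node 107520 (.leaf lf104) (.leaf lf105))) (.node 110592 (.node 109568 (.leaf lf106) (.leaf lf107)) (.node 111616 (.leaf lf108) (.leaf lf109)))) (.node 116736 (.node 114688 (.node 113664 (.leaf lf110) (.leaf lf111)) (.node 115712 (.leaf lf112) (.leaf lf113))) (.node 118784 (.node 117760 (.leaf lf114) (.leaf lf115)) (.node 119808 (.leaf lf116) (.leaf lf117))))))))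
def defsB : BTr := (.node 8192 (.node 4096 (.node 2048 (.node 1024 (.leaf lf118) (.leaf lf119)) (.node 3072 (.leaf lf120) (.leaf lf121))) (.node 6144 (.node 5120 (.leaf lf122) (.leaf lf123)) (.node 7168 (.leaf lf124) (.leaf lf125)))) (.node 12288 (.node 10240 (.node 9216 (.leaf lf126) (.leaf lf127)) (.node 11264 (.leaf lf128) (.leaf lf129))) (.node 14336 (.node 13312 (.leaf lf130) (.leaf lf131)) (.node 15360 (.leaf lf132) (.leaf lf133)))))
def finB : BTr := (.node 126976 (.node 63488 (.node 31744 (.node 15360 (.node 7168 (.node 3072 (.node 1024 (.leaf lf134) (.node 2048 (.leaf lf135) (.leaf lf136))) (.node 5120 (.node 4096 (.leaf lf137) (.leaf lf138)) (.node 6144 (.leaf lf139) (.leaf lf140)))) (.node 11264 (.node 9216 (.node 8192 (.leaf lf141) (.leaf lf142)) (.node 10240 (.leaf lf143) (.leaf lf144))) (.node 13312 (.node 12288 (.leaf lf145) (.leaf lf146)) (.node 14336 (.leaf lf147) (.leaf lf148))))) (.node 23552 (.node 19456 (.node 17408 (.node 16384 (.leaf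 lf149) (.leaf lf150)) (.node 18432 (.leaf lf151) (.leaf lf152))) (.node 21504 (.node 20480 (.leaf lf153) (.leaf lf154)) (.node 22528 (.leaf lf155) (.leaf lf156)))) (.node 27648 (.node 25600 (.node 24576 (.leaf lf157) (.leaf lf158)) (.node 26624 (.leaf lf159) (.leaf lf160))) (.node 29696 (.node 28672 (.leaf lf161) (.leaf lf162)) (.node 30720 (.leaf lf163) (.leaf lf164)))))) (.node 47104 (.node 38912 (.node 34816 (.node 32768 (.leaf lf165) (.node 33792 (.leaf lf166) (.leaf lf167))) (.node 36864 (.node 35840 (.leaf lf168) (.leaf lf169)) (.node 37888 (.leaf lf170) (.leaf lf171)))) (.node 43008 (.node 40960 (.node 39936 (.leaf lf172) (.leaf lf173)) (.node 41984 (.leaf lf174) (.leaf lf175))) (.node 45056 (.node 44032 (.leaf lf176) (.leaf lf177)) (.node 46080 (.leaf lf178) (.leaf lf179))))) (.node 55296 (.node 51200 (.node 49152 (.node 48128 (.leaf lf180) (.leaf lf181)) (.node 50176 (.leaf lf182) (.leaf lf183))) (.node 53248 (.node 52224 (.leaf lf184) (.leaf lf185))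 (.node 54272 (.leaf lf186) (.leaf lf187)))) (.node 59392 (.node 57344 (.node 56320 (.leaf lf188) (.leaf lf189)) (.node 58368 (.leaf lf190) (.leaf lf191))) (.node 61440 (.node 60416 (.leaf lf192) (.leaf lf193)) (.node 62464 (.leaf lf194) (.leaf lf195))))))) (.node 95232 (.node 78848 (.node 70656 (.node 66560 (.node 64512 (.leaf lf196) (.node 65536 (.leaf lf197) (.leaf lf198))) (.node 68608 (.node 67584 (.leaf lf199) (.leaf lf200)) (.node 69632 (.leaf lf201) (.leaf lf202)))) (.node 74752 (.node 72704 (.node 71680 (.leaf lf203) (.leaf lf204)) (.node 73728 (.leaf lf205) (.leaf lf206))) (.node 76800 (.node 75776 (.leaf lf207) (.leaf lf208)) (.node 77824 (.leaf lf209) (.leaf lf210))))) (.node 87040 (.node 82944 (.node 80896 (.node 79872 (.leaf lf211) (.leaf lf212)) (.node 81920 (.leaf lf213) (.leaf lf214))) (.node 84992 (.node 83968 (.leaf lf215) (.leaf lf216)) (.node 86016 (.leaf lf217) (.leaf lf218)))) (.node 91136 (.node 89088 (.node 88064 (.leaf lf219) (.leaf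 lf220)) (.node 90112 (.leaf lf221) (.leaf lf222))) (.node 93184 (.node 92160 (.leaf lf223) (.leaf lf224)) (.node 94208 (.leaf lf225) (.leaf lf226)))))) (.node 110592 (.node 102400 (.node 98304 (.node 96256 (.leaf lf227) (.node 97280 (.leaf lf228) (.leaf lf229))) (.node 100352 (.node 99328 (.leaf lf230) (.leaf lf231)) (.node 101376 (.leaf lf232) (.leaf lf233)))) (.node 106496 (.node 104448 (.node 103424 (.leaf lf234) (.leaf lf235)) (.node 105472 (.leaf lf236) (.leaf lf237))) (.node 108544 (.node 107520 (.leaf lf238) (.leaf lf239)) (.node 109568 (.leaf lf240) (.leaf lf241))))) (.node 118784 (.node 114688 (.node 112640 (.node 111616 (.leaf lf242) (.leaf lf243)) (.node 113664 (.leaf lf244) (.leaf lf245))) (.node 116736 (.node 115712 (.leaf lf246) (.leaf lf247)) (.node 117760 (.leaf lf248) (.leaf lf249)))) (.node 122880 (.node 120832 (.node 119808 (.leaf lf250) (.leaf lf251)) (.node 121856 (.leaf lf252) (.leaf lf253))) (.node 124928 (.node 123904 (.leaf lf254) (.leaf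 lf255)) (.node 125952 (.leaf lf256) (.leaf lf257)))))))) (.node 190464 (.node 158720 (.node 142336 (.node 134144 (.node 130048 (.node 128000 (.leaf lf258) (.node 129024 (.leaf lf259) (.leaf lf260))) (.node 132096 (.node 131072 (.leaf lf261) (.leaf lf262)) (.node 133120 (.leaf lf263) (.leaf lf264)))) (.node 138240 (.node 136192 (.node 135168 (.leaf lf265) (.leaf lf266)) (.node 137216 (.leaf lf267) (.leaf lf268))) (.node 140288 (.node 139264 (.leaf lf269) (.leaf lf270)) (.node 141312 (.leaf lf271) (.leaf lf272))))) (.node 150528 (.node 146432 (.node 144384 (.node 143360 (.leaf lf273) (.leaf lf274)) (.node 145408 (.leaf lf275) (.leaf lf276))) (.node 148480 (.node 147456 (.leaf lf277) (.leaf lf278)) (.node 149504 (.leaf lf279) (.leaf lf280)))) (.node 154624 (.node 152576 (.node 151552 (.leaf lf281) (.leaf lf282)) (.node 153600 (.leaf lf283) (.leaf lf284))) (.node 156672 (.node 155648 (.leaf lf285) (.leaf lf286)) (.node 157696 (.leaf lf287) (.leaf lf288)))))) (.node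 174080 (.node 165888 (.node 161792 (.node 159744 (.leaf lf289) (.node 160768 (.leaf lf290) (.leaf lf291))) (.node 163840 (.node 162816 (.leaf lf292) (.leaf lf293)) (.node 164864 (.leaf lf294) (.leaf lf295)))) (.node 169984 (.node 167936 (.node 166912 (.leaf lf296) (.leaf lf297)) (.node 168960 (.leaf lf298) (.leaf lf299))) (.node 172032 (.node 171008 (.leaf lf300) (.leaf lf301)) (.node 173056 (.leaf lf302) (.leaf lf303))))) (.node 182272 (.node 178176 (.node 176128 (.node 175104 (.leaf lf304) (.leaf lf305)) (.node 177152 (.leaf lf306) (.leaf lf307))) (.node 180224 (.node 179200 (.leaf lf308) (.leaf lf309)) (.node 181248 (.leaf lf310) (.leaf lf311)))) (.node 186368 (.node 184320 (.node 183296 (.leaf lf312) (.leaf lf313)) (.node 185344 (.leaf lf314) (.leaf lf315))) (.node 188416 (.node 187392 (.leaf lf316) (.leaf lf317)) (.node 189440 (.leaf lf318) (.leaf lf319))))))) (.node 222208 (.node 205824 (.node 197632 (.node 193536 (.node 191488 (.leaf lf320) (.node 192512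 (.leaf lf321) (.leaf lf322))) (.node 195584 (.node 194560 (.leaf lf323) (.leaf lf324)) (.node 196608 (.leaf lf325) (.leaf lf326)))) (.node 201728 (.node 199680 (.node 198656 (.leaf lf327) (.leaf lf328)) (.node 200704 (.leaf lf329) (.leaf lf330))) (.node 203776 (.node 202752 (.leaf lf331) (.leaf lf332)) (.node 204800 (.leaf lf333) (.leaf lf334))))) (.node 214016 (.node 209920 (.node 207872 (.node 206848 (.leaf lf335) (.leaf lf336)) (.node 208896 (.leaf lf337) (.leaf lf338))) (.node 211968 (.node 210944 (.leaf lf339) (.leaf lf340)) (.node 212992 (.leaf lf341) (.leaf lf342)))) (.node 218112 (.node 216064 (.node 215040 (.leaf lf343) (.leaf lf344)) (.node 217088 (.leaf lf345) (.leaf lf346))) (.node 220160 (.node 219136 (.leaf lf347) (.leaf lf348)) (.node 221184 (.leaf lf349) (.leaf lf350)))))) (.node 237568 (.node 229376 (.node 225280 (.node 223232 (.leaf lf351) (.node 224256 (.leaf lf352) (.leaf lf353))) (.node 227328 (.node 226304 (.leaf lf354) (.leaf lf355))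 (.node 228352 (.leaf lf356) (.leaf lf357)))) (.node 233472 (.node 231424 (.node 230400 (.leaf lf358) (.leaf lf359)) (.node 232448 (.leaf lf360) (.leaf lf361))) (.node 235520 (.node 234496 (.leaf lf362) (.leaf lf363)) (.node 236544 (.leaf lf364) (.leaf lf365))))) (.node 245760 (.node 241664 (.node 239616 (.node 238592 (.leaf lf366) (.leaf lf367)) (.node 240640 (.leaf lf368) (.leaf lf369))) (.node 243712 (.node 242688 (.leaf lf370) (.leaf lf371)) (.node 244736 (.leaf lf372) (.leaf lf373)))) (.node 249856 (.node 247808 (.node 246784 (.leaf lf374) (.leaf lf375)) (.node 248832 (.leaf lf376) (.leaf lf377))) (.node 251904 (.node 250880 (.leaf lf378) (.leaf lf379)) (.node 252928 (.leaf lf380) (.leaf lf381)))))))))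
def parB : BTr := (.node 7168 (.node 3072 (.node 1024 (.leaf lf382) (.node 2048 (.leaf lf383) (.leaf lf384))) (.node 5120 (.node 4096 (.leaf lf385) (.leaf lf386)) (.node 6144 (.leaf lf387) (.leaf lf388)))) (.node 10240 (.node 8192 (.leaf lf389) (.node 9216 (.leaf lf390) (.leaf lf391))) (.node 12288 (.node 11264 (.leaf lf392) (.leaf lf393)) (.node 13312 (.leaf lf394) (.leaf lf395)))))
def letB0 : BTr := (.node 7168 (.node 3072 (.node 1024 (.leaf lf396) (.node 2048 (.leaf lf397) (.leaf lf398))) (.node 5120 (.node 4096 (.leaf lf399) (.leaf lf400)) (.node 6144 (.leaf lf401) (.leaf lf402)))) (.node 10240 (.node 8192 (.leaf lf403) (.node 9216 (.leaf lf404) (.leaf lf405))) (.node 12288 (.node 11264 (.leaf lf406) (.leaf lf407)) (.node 13312 (.leaf lf408) (.leaf lf409)))))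
def letB1 : BTr := (.node 7168 (.node 3072 (.node 1024 (.leaf lf410) (.node 2048 (.leaf lf411) (.leaf lf412))) (.node 5120 (.node 4096 (.leaf lf413) (.leaf lf414)) (.node 6144 (.leaf lf415) (.leaf lf416)))) (.node 10240 (.node 8192 (.leaf lf417) (.node 9216 (.leaf lf418) (.leaf lf419))) (.node 12288 (.node 11264 (.leaf lf420) (.leaf lf421)) (.node 13312 (.leaf lf422) (.leaf lf423)))))
def letB2 : BTr := (.node 7168 (.node 3072 (.node 1024 (.leaf lf424) (.node 2048 (.leaf lf425) (.leaf lf426))) (.node 5120 (.node 4096 (.leaf lf427) (.leaf lf428)) (.node 6144 (.leaf lf429) (.leaf lf430)))) (.node 10240 (.node 8192 (.leaf lf431) (.node 9216 (.leaf lf432) (.leaf lf433))) (.node 12288 (.node 11264 (.leaf lf434) (.leaf lf435)) (.node 13312 (.leaf lf436) (.leaf lf437)))))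
def letB3 : BTr := (.node 7168 (.node 3072 (.node 1024 (.leaf lf438) (.node 2048 (.leaf lf439) (.leaf lf440))) (.node 5120 (.node 4096 (.leaf lf441) (.leaf lf442)) (.node 6144 (.leaf lf443) (.leaf lf444)))) (.node 10240 (.node 8192 (.leaf lf445) (.node 9216 (.leaf lf446) (.leaf lf447))) (.node 12288 (.node 11264 (.leaf lf448) (.leaf lf449)) (.node 13312 (.leaf lf450) (.leaf lf451)))))
def letB4 : BTr := (.node 7168 (.node 3072 (.node 1024 (.leaf lf452) (.node 2048 (.leaf lf453) (.leaf lf454))) (.node 5120 (.node 4096 (.leaf lf455) (.leaf lf456)) (.node 6144 (.leaf lf457) (.leaf lf458)))) (.node 10240 (.node 8192 (.leaf lf459) (.node 9216 (.leaf lf460) (.leaf lf461))) (.node 12288 (.node 11264 (.leaf lf462) (.leaf lf463)) (.node 13312 (.leaf lf464) (.leaf lf465)))))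
def letB5 : BTr := (.node 7168 (.node 3072 (.node 1024 (.leaf lf466) (.node 2048 (.leaf lf467) (.leaf lf468))) (.node 5120 (.node 4096 (.leaf lf469) (.leaf lf470)) (.node 6144 (.leaf lf471) (.leaf lf472)))) (.node 10240 (.node 8192 (.leaf lf473) (.node 9216 (.leaf lf474) (.leaf lf475))) (.node 12288 (.node 11264 (.leaf lf476) (.leaf lf477)) (.node 13312 (.leaf lf478) (.leaf lf479)))))
def letB6 : BTr := (.node 7168 (.node 3072 (.node 1024 (.leaf lf480) (.node 2048 (.leaf lf481) (.leaf lf482))) (.node 5120 (.node 4096 (.leaf lf483) (.leaf lf484)) (.node 6144 (.leaf lf485) (.leaf lf486)))) (.node 10240 (.node 8192 (.leaf lf487) (.node 9216 (.leaf lf488) (.leaf lf489))) (.node 12288 (.node 11264 (.leaf lf490) (.leaf lf491)) (.node 13312 (.leaf lf492) (.leaf lf493)))))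
def letB7 : BTr := (.node 7168 (.node 3072 (.node 1024 (.leaf lf494) (.node 2048 (.leaf lf495) (.leaf lf496))) (.node 5120 (.node 4096 (.leaf lf497) (.leaf lf498)) (.node 6144 (.leaf lf499) (.leaf lf500)))) (.node 10240 (.node 8192 (.leaf lf501) (.node 9216 (.leaf lf502) (.leaf lf503))) (.node 12288 (.node 11264 (.leaf lf504) (.leaf lf505)) (.node 13312 (.leaf lf506) (.leaf lf507)))))
def letB8 : BTr := (.node 7168 (.node 3072 (.node 1024 (.leaf lf508) (.node 2048 (.leaf lf509) (.leaf lf510))) (.node 5120 (.node 4096 (.leaf lf511) (.leaf lf512)) (.node 6144 (.leaf lf513) (.leaf lf514)))) (.node 10240 (.node 8192 (.leaf lf515) (.node 9216 (.leaf lf516) (.leaf lf517))) (.node 12288 (.node 11264 (.leaf lf518) (.leaf lf519)) (.node 13312 (.leaf lf520) (.leaf lf521)))))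
def letB9 : BTr := (.node 7168 (.node 3072 (.node 1024 (.leaf lf522) (.node 2048 (.leaf lf523) (.leaf lf524))) (.node 5120 (.node 4096 (.leaf lf525) (.leaf lf526)) (.node 6144 (.leaf lf527) (.leaf lf528)))) (.node 10240 (.node 8192 (.leaf lf529) (.node 9216 (.leaf lf530) (.leaf lf531))) (.node 12288 (.node 11264 (.leaf lf532) (.leaf lf533)) (.node 13312 (.leaf lf534) (.leaf lf535)))))
def letB10 : BTr := (.node 7168 (.node 3072 (.node 1024 (.leaf lf536) (.node 2048 (.leaf lf537) (.leaf lf538))) (.node 5120 (.node 4096 (.leaf lf539) (.leaf lf540)) (.node 6144 (.leaf lf541) (.leaf lf542)))) (.node 10240 (.node 8192 (.leaf lf543) (.node 9216 (.leaf lf544) (.leaf lf545))) (.node 12288 (.node 11264 (.leaf lf546) (.leaf lf547)) (.node 13312 (.leaf lf548) (.leaf lf549)))))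
def letB11 : BTr := (.node 7168 (.node 3072 (.node 1024 (.leaf lf550) (.node 2048 (.leaf lf551) (.leaf lf552))) (.node 5120 (.node 4096 (.leaf lf553) (.leaf lf554)) (.node 6144 (.leaf lf555) (.leaf lf556)))) (.node 10240 (.node 8192 (.leaf lf557) (.node 9216 (.leaf lf558) (.leaf lf559))) (.node 12288 (.node 11264 (.leaf lf560) (.leaf lf561)) (.node 13312 (.leaf lf562) (.leaf lf563)))))
def letB12 : BTr := (.node 7168 (.node 3072 (.node 1024 (.leaf lf564) (.node 2048 (.leaf lf565) (.leaf lf566))) (.node 5120 (.node 4096 (.leaf lf567) (.leaf lf568)) (.node 6144 (.leaf lf569) (.leaf lf570)))) (.node 10240 (.node 8192 (.leaf lf571) (.node 9216 (.leaf lf572) (.leaf lf573))) (.node 12288 (.node 11264 (.leaf lf574) (.leaf lf575)) (.node 13312 (.leaf lf576) (.leaf lf577)))))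
def letB13 : BTr := (.node 7168 (.node 3072 (.node 1024 (.leaf lf578) (.node 2048 (.leaf lf579) (.leaf lf580))) (.node 5120 (.node 4096 (.leaf lf581) (.leaf lf582)) (.node 6144 (.leaf lf583) (.leaf lf584)))) (.node 10240 (.node 8192 (.leaf lf585) (.node 9216 (.leaf lf586) (.leaf lf587))) (.node 12288 (.node 11264 (.leaf lf588) (.leaf lf589)) (.node 13312 (.leaf lf590) (.leaf lf591)))))
def letB14 : BTr := (.node 7168 (.node 3072 (.node 1024 (.leaf lf592) (.node 2048 (.leaf lf593) (.leaf lf594))) (.node 5120 (.node 4096 (.leaf lf595) (.leaf lf596)) (.node 6144 (.leaf lf597) (.leaf lf598)))) (.node 10240 (.node 8192 (.leaf lf599) (.node 9216 (.leaf lf600) (.leaf lf601))) (.node 12288 (.node 11264 (.leaf lf602) (.leaf lf603)) (.node 13312 (.leaf lf604) (.leaf lf605)))))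
def letB15 : BTr := (.node 7168 (.node 3072 (.node 1024 (.leaf lf606) (.node 2048 (.leaf lf607) (.leaf lf608))) (.node 5120 (.node 4096 (.leaf lf609) (.leaf lf610)) (.node 6144 (.leaf lf611) (.leaf lf612)))) (.node 10240 (.node 8192 (.leaf lf613) (.node 9216 (.leaf lf614) (.leaf lf615))) (.node 12288 (.node 11264 (.leaf lf616) (.leaf lf617)) (.node 13312 (.leaf lf618) (.leaf lf619)))))
def letB16 : BTr := (.node 7168 (.node 3072 (.node 1024 (.leaf lf620) (.node 2048 (.leaf lf621) (.leaf lf622))) (.node 5120 (.node 4096 (.leaf lf623) (.leaf lf624)) (.node 6144 (.leaf lf625) (.leaf lf626)))) (.node 10240 (.node 8192 (.leaf lf627) (.node 9216 (.leaf lf628) (.leaf lf629))) (.node 12288 (.node 11264 (.leaf lf630) (.leaf lf631)) (.node 13312 (.leaf lf632) (.leaf lf633)))))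
def letB17 : BTr := (.node 7168 (.node 3072 (.node 1024 (.leaf lf634) (.node 2048 (.leaf lf635) (.leaf lf636))) (.node 5120 (.node 4096 (.leaf lf637) (.leaf lf638)) (.node 6144 (.leaf lf639) (.leaf lf640)))) (.node 10240 (.node 8192 (.leaf lf641) (.node 9216 (.leaf lf642) (.leaf lf643))) (.node 12288 (.node 11264 (.leaf lf644) (.leaf lf645)) (.node 13312 (.leaf lf646) (.leaf lf647)))))
def letL : LTr := (.node 9 (.node 4 (.node 2 (.node 1 (.leaf letB0) (.leaf letB1)) (.node 3 (.leaf letB2) (.leaf letB3))) (.node 6 (.node 5 (.leaf letB4) (.leaf letB5)) (.node 7 (.leaf letB6) (.node 8 (.leaf letB7) (.leaf letB8))))) (.node 13 (.node 11 (.node 10 (.leaf letB9) (.leaf letB10)) (.node 12 (.leaf letB11) (.leaf letB12))) (.node 15 (.node 14 (.leaf letB13) (.leaf letB14)) (.node 16 (.leaf letB15) (.node 17 (.leaf letB16) (.leaf letB17))))))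
def wordsTr : WTr := (.node (.node (.node (.node (.node (.node (.node (.leaf [2]) (.leaf [12, 4, 12, 4])) (.node (.leaf [4, 12, 4, 12]) (.leaf [4, 5]))) (.node (.node (.leaf [0, 16, 0, 16]) (.leaf [16, 0, 16, 0])) (.leaf [8, 8]))) (.node (.node (.node (.leaf [0, 0]) (.leaf [14, 2, 14, 2])) (.node (.leaf [6, 10, 6, 10]) (.leaf [12, 13]))) (.node (.node (.leaf [2, 14, 2, 14]) (.leaf [16, 16])) (.leaf [10, 6, 10, 6])))) (.node (.node (.node (.node (.leaf [10]) (.leaf [12, 12])) (.node (.leaf [6, 2, 6, 2]) (.leaf [8, 9]))) (.node (.node (.leaf [2, 6, 2, 6]) (.leaf [16, 8, 16, 8])) (.leaf [8, 16, 8, 16]))) (.node (.node (.node (.leaf [0, 8, 0, 8]) (.leaf [14, 10, 14, 10])) (.node (.leaf [8, 0, 8, 0]) (.leaf [16, 17]))) (.node (.node (.leaf [4, 4]) (.leaf [0, 1])) (.leaf [10, 14, 10, 14]))))) (.node (.node (.node (.node (.node (.leaf [6]) (.leaf [12, 8, 12, 8])) (.node (.leaf [4, 16, 4, 16]) (.leaf [6, 7]))) (.node (.node (.leaf [2, 2]) (.leaf [16, 4, 16, 4])) (.leaf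 [8, 12, 8, 12]))) (.node (.node (.node (.leaf [0, 4, 0, 4]) (.leaf [14, 6, 14, 6, 14, 6])) (.node (.leaf [6, 14, 6, 14, 6, 14]) (.leaf [14, 15]))) (.node (.node (.leaf [4, 0, 4, 0]) (.leaf [0, 2, 4, 6, 8, 10, 14, 0, 2, 4, 6, 8, 10, 14, 0, 2, 4, 6, 8, 10, 14, 0, 2, 4, 6, 8, 10, 14, 0, 2, 4, 6, 8, 10, 14, 0, 2, 4, 6, 8, 10, 14, 0, 2, 4, 6, 8, 10, 14, 0, 2, 4, 6, 8, 10, 14, 0, 2, 4, 6, 8, 10, 14])) (.leaf [10, 10])))) (.node (.node (.node (.node (.leaf [14]) (.leaf [12, 16, 12, 16])) (.node (.leaf [6, 6]) (.leaf [10, 11]))) (.node (.node (.leaf [2, 10, 2, 10]) (.leaf [16, 12, 16, 12])) (.leaf [10, 2, 10, 2]))) (.node (.node (.node (.leaf [0, 12, 0, 12]) (.leaf [14, 14])) (.node (.leaf [8, 4, 8, 4]) (.leaf []))) (.node (.node (.leaf [4, 8, 4, 8]) (.leaf [2, 3])) (.leaf [12, 0, 12, 0])))))) (.node (.node (.node (.node (.node (.node (.leaf [4]) (.leaf [12, 6, 12, 6])) (.node (.leaf [4, 14, 4, 14]) (.leaf [5, 4]))) (.node (.node (.leaf [2, 0, 2, 0, 2, 0]) (.leaf [16,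 2, 16, 2])) (.leaf [8, 10, 8, 10, 8, 10]))) (.node (.node (.node (.leaf [0, 2, 0, 2, 0, 2]) (.leaf [14, 4, 14, 4])) (.node (.leaf [6, 12, 6, 12]) (.leaf [13, 12]))) (.node (.node (.leaf [2, 16, 2, 16]) (.leaf [6, 4, 2, 6, 8, 10, 6, 14, 16, 6, 4, 2, 6, 8, 10, 6, 14, 16, 6, 4, 2, 6, 8, 10, 6, 14, 16, 6, 4, 2, 6, 8, 10, 6, 14, 16, 6, 4, 2, 6, 8, 10, 6, 14, 16, 6, 4, 2, 6, 8, 10, 6, 14, 16, 6, 4, 2, 6, 8, 10, 6, 14, 16, 6, 4, 2, 6, 8, 10, 6, 14, 16, 6, 4, 2, 6, 8, 10, 6, 14, 16, 6, 4, 2, 6, 8, 10, 6, 14, 16])) (.leaf [10, 8, 10, 8, 10, 8])))) (.node (.node (.node (.node (.leaf [12]) (.leaf [12, 14, 12, 14])) (.node (.leaf [6, 4, 6, 4, 6, 4]) (.leaf [9, 8]))) (.node (.node (.leaf [2, 8, 2, 8]) (.leaf [16, 10, 16, 10])) (.leaf [10, 0, 10, 0]))) (.node (.node (.node (.leaf [0, 10, 0, 10]) (.leaf [14, 12, 14, 12])) (.node (.leaf [8, 2, 8, 2]) (.leaf [17, 16]))) (.node (.node (.leaf [4, 6, 4, 6, 4, 6]) (.leaf [1, 0])) (.leaf [10, 16, 10, 16]))))) (.node (.node (.node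 (.node (.node (.leaf [8]) (.leaf [12, 10, 12, 10, 12, 10])) (.node (.leaf [6, 0, 6, 0]) (.leaf [7, 6]))) (.node (.node (.leaf [2, 4, 2, 4, 2, 4]) (.leaf [16, 6, 16, 6])) (.leaf [8, 14, 8, 14]))) (.node (.node (.node (.leaf [0, 6, 0, 6]) (.leaf [14, 8, 14, 8])) (.node (.leaf [6, 16, 6, 16]) (.leaf [15, 14]))) (.node (.node (.leaf [4, 2, 4, 2, 4, 2]) (.leaf [2, 4, 6, 8, 10, 12, 14, 2, 4, 6, 8, 10, 12, 14, 2, 4, 6, 8, 10, 12, 14, 2, 4, 6, 8, 10, 12, 14, 2, 4, 6, 8, 10, 12, 14, 2, 4, 6, 8, 10, 12, 14, 2, 4, 6, 8, 10, 12, 14, 2, 4, 6, 8, 10, 12, 14, 2, 4, 6, 8, 10, 12, 14])) (.leaf [10, 12, 10, 12, 10, 12])))) (.node (.node (.node (.node (.leaf [16]) (.leaf [14, 0, 14, 0])) (.node (.leaf [6, 8, 6, 8, 6, 8]) (.leaf [11, 10]))) (.node (.node (.leaf [2, 12, 2, 12]) (.leaf [16, 14, 16, 14, 16, 14])) (.leaf [10, 4, 10, 4]))) (.node (.node (.node (.leaf [0, 14, 0, 14]) (.leaf [14, 16, 14, 16, 14, 16])) (.leaf [8, 6, 8, 6, 8, 6])) (.node (.node (.leaf [4, 10, 4, 10]) (.leaf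 [3, 2])) (.leaf [12, 2, 12, 2])))))))
noncomputable def tabs : Tabs where
  M := 15696
  nsub := 8
  nwords := 111
  word := wordsTr.get
  defn := fun d => defsB.look 1023 48 281474976710655 d
  fact := fun k => factsB.look 1023 48 281474976710655 k
noncomputable def ptabs : PTabs where
  n := 14080
  L := 18
  perm := fun l i => (letL.get l).look 1023 14 16383 i
  fin := fun i l => finB.look 1023 24 16777215 (Nat.add (Nat.mul i 18) l)
  par := fun i => parB.look 1023 32 4294967295 i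
theorem perm_eq : ∀ l i, ptabs.perm l i = (letL.get l).look 1023 14 16383 i := fun _ _ => rfl
end Cfsg.Agent.Helper28.Fi22a
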