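import Cfsg.Agent.Helper28.Fi22a.Data
set_option autoImplicit false
set_option maxRecDepth 1000000
namespace Cfsg.Agent.Helper28.Fi22a
open Cfsg.Agent.Helper28
theorem perm_piece_58_0 : permPiece tabs.word letL.get 1023 14 16383 66 1 0 14080 = true := by decide +kernel
theorem perm_piece_59_0 : permPiece tabs.word letL.get 1023 14 16383 67 1 0 14080 = true := by decide +kernel
theorem perm_piece_60_0 : permPiece tabs.word letL.get 1023 14 16383 68 2 0 14080 = true := by decide +kernel
theorem perm_piece_61_0 : permPiece tabs.word letL.get 1023 14 16383 70 1 0 14080 = true := by decide +kernel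
theorem perm_piece_62_0 : permPiece tabs.word letL.get 1023 14 16383 71 1 0 14080 = true := by decide +kernel
theorem perm_piece_63_0 : permPiece tabs.word letL.get 1023 14 16383 72 1 0 14080 = true := by decide +kernel
theorem perm_piece_64_0 : permPiece tabs.word letL.get 1023 14 16383 73 1 0 14080 = true := by decide +kernel
theorem perm_piece_65_0 : permPiece tabs.word letL.get 1023 14 16383 74 1 0 14080 = true := by decide +kernel
theorem perm_piece_66_0 : permPiece tabs.word letL.get 1023 14 16383 75 1 0 14080 = true := by decide +kernel
theorem perm_piece_67_0 : permPiece tabs.word letL.get 1023 14 16383 76 1 0 14080 = true := by decide +kernel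
theorem perm_piece_68_0 : permPiece tabs.word letL.get 1023 14 16383 77 2 0 14080 = true := by decide +kernel
theorem perm_piece_69_0 : permPiece tabs.word letL.get 1023 14 16383 79 1 0 14080 = true := by decide +kernel
theorem perm_piece_70_0 : permPiece tabs.word letL.get 1023 14 16383 80 1 0 14080 = true := by decide +kernel
end Cfsg.Agent.Helper28.Fi22a
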